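import Cfsg.Agent.SporRec.TwoSp6.Main

/-!
# Involutions of `Sp₆(2)` and of its non-split double cover
-/

set_option autoImplicit false
set_option linter.unusedSimpArgs false

namespace Cfsg.Agent.SporRec.TwoSp6.Invol

open Cfsg.Agent.SporRec.TwoSp6.Cox Cfsg.Agent.SporRec.TwoSp6.Sp Cfsg.Agent.SporRec.TwoSp6.Lift
  Cfsg.Agent.SporRec.TwoSp6.Main

/-! ### linear algebra over `ZMod 2` -/

theorem eq_of_add_eq_zero {x y : V} (h : x + y = 0) : x = y := by
  have := congrArg (· + y) h
  simp only [add_assoc, add_self, add_zero, zero_add] at this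
  exact this

theorem om_zero (x : V) : om x 0 = 0 := by
  have := om_add x 0 0
  rw [add_zero] at this
  have h2 : om x 0 + om x 0 = 0 := CharTwo.add_self_eq_zero _
  rw [← this] at h2
  exact h2

theorem act_zero (g : S) : act g 0 = 0 := Matrix.mulVec_zero _

theorem act_inj {g : S} {x y : V} (h : act g x = act g y) : x = y := by
  have := congrArg (act g⁻¹) h
  rwa [← act_mul, ← act_mul, inv_mul_cancel, act_one, act_one] at this

theorem act_ne {g : S} {x : V} (h : x ≠ 0) : act g x ≠ 0 := by
  intro h0
  rw [← act_zero g] at h0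
  exact h (act_inj h0)

/-- Independence of a triple with two of them spanning a line. -/
def Ind (u w t : V) : Prop := u ≠ 0 ∧ w ≠ 0 ∧ w ≠ u ∧ t ≠ 0 ∧ t ≠ u ∧ t ≠ w ∧ t ≠ u + w

/-- Mutually orthogonal. -/
def Orth (u w t : V) : Prop := om u w = 0 ∧ om u t = 0 ∧ om w t = 0

instance (u w t : V) : Decidable (Ind u w t) := by unfold Ind; infer_instance

theorem act_smul (g : S) (a : ZMod 2) (x : V) : act g (a • x) = a • act g x := Matrix.mulVec_smul _ _ _

/-- Given an independent triple (not necessarily orthogonal) there is a vector orthogonal to the first two and not to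
the third. -/
theorem exists_om_triple {u w t : V} (h : Ind u w t) : ∃ a, om t a = 1 ∧ om u a = 0 ∧ om w a = 0 := by
  obtain ⟨h1, h2, h3, h4, h5, h6, h7⟩ := h
  -- vectors separating
  obtain ⟨a, ha, hau⟩ := exists_om_one_zero h4 h5
  obtain ⟨b, hb, hbu⟩ := exists_om_one_zero h2 h3
  rcases om_cases w a with hwa | hwa
  · exact ⟨a, ha, hau, hwa⟩
  rcases om_cases t b with htb | htb
  · refine ⟨a + b, ?_, ?_, ?_⟩
    · rw [om_add, ha, htb, add_zero]
    · rw [om_add, hau, hbu, add_zero]
    · rw [om_add, hwa, hb]; decide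
  -- now t = w on a and b; use t + w
  have htw : t + w ≠ 0 := fun h0 => h6 (eq_of_add_eq_zero h0)
  have htwu : t + w ≠ u := by
    intro h0
    apply h7
    rw [← h0, add_assoc, add_self, add_zero]
  obtain ⟨c, hc, hcu⟩ := exists_om_one_zero htw htwu
  rw [om_add'] at hc
  rcases om_cases t c with h8 | h8
  · rw [h8, zero_add] at hc
    refine ⟨a + c, ?_, ?_, ?_⟩
    · rw [om_add, ha, h8, add_zero]
    · rw [om_add, hau, hcu, add_zero]
    · rw [om_add, hwa, hc]; decide
  · have hwc : om w c = 0 := by
      rcases om_cases w c with h9 | h9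
      · exact h9
      · rw [h8, h9] at hc
        exact absurd hc (by decide)
    exact ⟨c, h8, hcu, hwc⟩

theorem exists_fix_two {u w x y : V} (hx : Ind u w x) (hxo : om u x = 0 ∧ om w x = 0) (hy : Ind u w y)
    (hyo : om u y = 0 ∧ om w y = 0) : ∃ g : S, act g u = u ∧ act g w = w ∧ act g x = y := by
  have key : ∀ x y : V, om u x = 0 ∧ om w x = 0 → om u y = 0 ∧ om w y = 0 → om x y = 1 →
      act (tr (x + y)) u = u ∧ act (tr (x + y)) w = w ∧ act (tr (x + y)) x = y := by
    intro x y hx hy h
    refine ⟨?_, ?_, ?_⟩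
    · rw [act_tr, om_add, hx.1, hy.1, add_zero, zero_smul, add_zero]
    · rw [act_tr, om_add, hx.2, hy.2, add_zero, zero_smul, add_zero]
    · rw [act_tr, om_add, om_self, h, zero_add, one_smul, ← add_assoc, add_self, zero_add]
  rcases om_cases x y with h | h
  · obtain ⟨a, ha, hau, haw⟩ := exists_om_triple hx
    obtain ⟨b, hb, hbu, hbw⟩ := exists_om_triple hy
    have ht : ∃ t, om x t = 1 ∧ om y t = 1 ∧ om u t = 0 ∧ om w t = 0 := by
      rcases om_cases y a with h3 | h3
      · rcases om_cases x b with h4 | h4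
        · refine ⟨a + b, ?_, ?_, ?_, ?_⟩
          · rw [om_add, ha, h4, add_zero]
          · rw [om_add, h3, hb, zero_add]
          · rw [om_add, hau, hbu, add_zero]
          · rw [om_add, haw, hbw, add_zero]
        · exact ⟨b, h4, hb, hbu, hbw⟩
      · exact ⟨a, ha, h3, hau, haw⟩
    obtain ⟨t, t1, t2, t3, t4⟩ := ht
    obtain ⟨k1, k2, k3⟩ := key x t hxo ⟨t3, t4⟩ t1
    obtain ⟨k4, k5, k6⟩ := key t y ⟨t3, t4⟩ hyo (by rw [om_symm]; exact t2)
    refine ⟨tr (t + y) * tr (x + t), ?_, ?_, ?_⟩
    · rw [act_mul, k1, k4]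
    · rw [act_mul, k2, k5]
    · rw [act_mul, k3, k6]
  · exact ⟨_, key x y hxo hyo h⟩

theorem Ind.act {u w t : V} (h : Ind u w t) (g : S) : Ind (Sp.act g u) (Sp.act g w) (Sp.act g t) := by
  obtain ⟨h1, h2, h3, h4, h5, h6, h7⟩ := h
  refine ⟨act_ne h1, act_ne h2, fun h => h3 (act_inj h), act_ne h4, fun h => h5 (act_inj h),
    fun h => h6 (act_inj h), fun h => h7 (act_inj (g := g) ?_)⟩
  rw [h, act_add]

/-- `Sp₆(2)` is transitive on the ordered triples of independent mutually orthogonal vectors. -/
theorem exists_triple {u w t u' w' t' : V} (h : Ind u w t) (ho : Orth u w t) (h' : Ind u' w' t')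
    (ho' : Orth u' w' t') : ∃ g : S, act g u = u' ∧ act g w = w' ∧ act g t = t' := by
  obtain ⟨g, hg1, hg2⟩ := exists_pair h.1 h.2.1 h.2.2.1 ho.1 h'.1 h'.2.1 h'.2.2.1 ho'.1
  have hi := h.act g
  rw [hg1, hg2] at hi
  obtain ⟨k, k1, k2, k3⟩ := exists_fix_two hi
    ⟨by rw [← hg1, act_om]; exact ho.2.1, by rw [← hg2, act_om]; exact ho.2.2⟩ h' ⟨ho'.2.1, ho'.2.2⟩
  exact ⟨k * g, by rw [act_mul, hg1, k1], by rw [act_mul, hg2, k2], by rw [act_mul, k3]⟩

/-! ### classification of the involutions of `Sp₆(2)` -/

/-- Basic identity for an involution. -/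
theorem inv_om {g : S} (hg : g * g = 1) (x y : V) : om x (act g y) = om (act g x) y := by
  have := act_om g x (act g y)
  rw [← act_mul, hg, act_one] at this
  exact this.symm

theorem fix_add {g : S} (hg : g * g = 1) (x : V) : act g (x + act g x) = x + act g x := by
  rw [act_add, ← act_mul, hg, act_one, add_comm]

/-- The reduction step: if `(x, g x) = 1` then `g = tr u * g'` with `u = x + g x`, `g'` an involution or trivial
commuting with `tr u`, fixing everything `g` fixes, and `x`. -/
theorem reduce {g : S} (hg : g * g = 1) {x : V} (hx : om x (act g x) = 1) :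
    ∃ u : V, u ≠ 0 ∧ u = x + act g x ∧ act g u = u ∧ (tr u * g) * (tr u * g) = 1 ∧
      (∀ y, act g y = y → act (tr u * g) y = y ∧ om y u = 0) ∧ act (tr u * g) x = x ∧ om x u = 1 := by
  have hu : act g (x + act g x) = x + act g x := fix_add hg x
  have hxu : om x (x + act g x) = 1 := by rw [om_add, om_self, hx, zero_add]
  have hgxu : om (act g x) (x + act g x) = 1 := by
    rw [om_add, om_self, om_symm, hx, add_zero]
  have hcomm : tr (x + act g x) * g = g * tr (x + act g x) := by
    have := conj_tr g (x + act g x)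
    rw [hu, mul_inv_eq_iff_eq_mul] at this
    exact this.symm
  refine ⟨x + act g x, ?_, rfl, hu, ?_, ?_, ?_, hxu⟩
  · intro h
    rw [h, om_zero] at hxu
    exact zero_ne_one hxu
  · calc tr (x + act g x) * g * (tr (x + act g x) * g)
        = tr (x + act g x) * (g * tr (x + act g x)) * g := by group
      _ = tr (x + act g x) * (tr (x + act g x) * g) * g := by rw [hcomm]
      _ = (tr (x + act g x) * tr (x + act g x)) * (g * g) := by group
      _ = 1 := by rw [tr_sq, hg, one_mul]
  · intro y hy
    have hyu : om y (x + act g x) = 0 := by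
      rw [om_add, inv_om hg, hy]
      exact CharTwo.add_self_eq_zero _
    refine ⟨?_, hyu⟩
    rw [act_mul, hy, act_tr, hyu, zero_smul, add_zero]
  · rw [act_mul, act_tr, hgxu, one_smul, add_comm x, ← add_assoc, add_self, zero_add]

/-- A maximal totally isotropic subspace. -/
theorem maximal {u w t s : V} (h : Ind u w t) (ho : Orth u w t) (h1 : om s u = 0) (h2 : om s w = 0)
    (h3 : om s t = 0) : ∃ α β γ : ZMod 2, s = α • u + β • w + γ • t := by
  have hi : Ind (enc 1) (enc 2) (enc 4) := by decide +kernel
  have hio : Orth (enc 1) (enc 2) (enc 4) :=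
    ⟨(om_enc 1 2).trans (by decide), (om_enc 1 4).trans (by decide), (om_enc 2 4).trans (by decide)⟩
  obtain ⟨g, g1, g2, g3⟩ := exists_triple h ho hi hio
  have k1 : om (act g s) (enc 1) = 0 := by rw [← g1, act_om, h1]
  have k2 : om (act g s) (enc 2) = 0 := by rw [← g2, act_om, h2]
  have k3 : om (act g s) (enc 4) = 0 := by rw [← g3, act_om, h3]
  obtain ⟨c, hc, hcs⟩ := exists_enc (act g s)
  rw [hcs, om_enc] at k1 k2 k3
  have b : ∀ b : Bool, (if b then (1 : ZMod 2) else 0) = 0 → b = false := by decide
  have key : ∀ c < 64, fN c 1 = false → fN c 2 = false → fN c 4 = false → c < 8 := by decide +kernel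
  have hc8 := key c hc (b _ k1) (b _ k2) (b _ k3)
  have key2 : ∀ c : Fin 8, enc c.val = bitf c.val 0 • enc 1 + bitf c.val 1 • enc 2 + bitf c.val 2 • enc 4 := by
    decide +kernel
  have e := key2 ⟨c, hc8⟩
  dsimp only at e
  refine ⟨bitf c 0, bitf c 1, bitf c 2, act_inj (g := g) ?_⟩
  rw [hcs, e, act_add, act_add, act_smul, act_smul, act_smul, g1, g2, g3]

theorem om_smul (a : ZMod 2) (x y : V) : om x (a • y) = a * om x y := by
  rcases (show ∀ a : ZMod 2, a = 0 ∨ a = 1 by decide) a with rfl | rfl
  · rw [zero_smul, om_zero, zero_mul]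
  · rw [one_smul, one_mul]

theorem om_smul' (a : ZMod 2) (x y : V) : om (a • x) y = a * om x y := by
  rw [om_symm, om_smul, om_symm]

/-- `(a, b + g b) = (a + g a, b)` for an involution `g`. -/
theorem om_N {g : S} (hg : g * g = 1) (a b : V) : om a (b + act g b) = om (a + act g a) b := by
  rw [om_add, om_add', inv_om hg]

theorem tr3_apply {u w : V} (h : om u w = 0) (a : V) :
    act (tr u * tr w * tr (u + w)) a = a + (om a w • u + om a u • w) := by
  have h' : om w u = 0 := by rw [om_symm]; exact h
  rw [act_mul, act_mul]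
  have e1 : act (tr (u + w)) a = a + om a (u + w) • (u + w) := act_tr _ _
  have e2 : ∀ b, act (tr w) b = b + om b w • w := fun b => act_tr _ _
  have e3 : ∀ b, act (tr u) b = b + om b u • u := fun b => act_tr _ _
  have f1 : om (a + om a (u + w) • (u + w)) w = om a w := by
    rw [om_add', om_smul', om_add', h, om_self, add_zero, mul_zero, add_zero]
  have f2 : om (a + om a (u + w) • (u + w) + om a w • w) u = om a u := by
    rw [om_add', om_add', om_smul', om_smul', om_add', h', om_self, add_zero, mul_zero, mul_zero, add_zero, add_zero]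
  rw [e1, e2, f1, e3, f2, om_add]
  have dbl : ∀ (c : ZMod 2) (x : V), c • x + c • x = 0 := fun c x => add_self _
  have e : a + (om a u + om a w) • (u + w) + om a w • w + om a u • u =
      a + (om a w • u + om a u • w) + (om a u • u + om a u • u) + (om a w • w + om a w • w) := by
    rw [smul_add, add_smul, add_smul]; abel
  rw [e, dbl, dbl, add_zero, add_zero]

/-- The alternating case: an involution with `(x, g x) = 0` for all `x` is `tr u * tr w * tr (u + w)`. -/
theorem alternate {g : S} (hg : g * g = 1) (h1 : g ≠ 1) (h0 : ∀ x, om x (act g x) = 0) :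
    ∃ u w x y : V, u ≠ 0 ∧ w ≠ 0 ∧ w ≠ u ∧ om u w = 0 ∧ u = x + act g x ∧ w = y + act g y ∧
      g = tr u * tr w * tr (u + w) := by
  obtain ⟨x, hx⟩ : ∃ x, act g x ≠ x := by
    by_contra h
    push Not at h
    apply h1
    apply act_ext
    intro x
    rw [h, act_one]
  have hu0 : x + act g x ≠ 0 := fun h => hx (eq_of_add_eq_zero h).symm
  obtain ⟨y, hy⟩ := exists_om_one hu0
  set u := x + act g x with hu
  set w := y + act g y with hw
  have Nself : ∀ a, om a (a + act g a) = 0 := by
    intro a
    rw [om_add, om_self, h0, add_zero]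
  have Nfix : ∀ a, act g (a + act g a) = a + act g a := fix_add hg
  have NN : ∀ a b, om (a + act g a) (b + act g b) = 0 := by
    intro a b
    rw [om_N hg, Nfix, add_self, om_symm, om_zero]
  have hyu : om y u = 1 := by rw [om_symm]; exact hy
  have hxw : om x w = 1 := by
    rw [hw, om_N hg]
    exact hy
  have hxu : om x u = 0 := Nself x
  have hyw : om y w = 0 := Nself y
  have hw0 : w ≠ 0 := by
    intro h
    rw [h, om_zero] at hxw
    exact zero_ne_one hxw
  have hwu : w ≠ u := by
    intro h
    rw [h, hxu] at hxw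
    exact zero_ne_one hxw
  have huw : om u w = 0 := NN x y
  refine ⟨u, w, x, y, hu0, hw0, hwu, huw, hu, hw, ?_⟩
  -- vectors orthogonal to u and w are fixed
  have hfix : ∀ f, om f u = 0 → om f w = 0 → act g f = f := by
    intro f fu fw
    by_contra hf
    have ht0 : f + act g f ≠ 0 := fun h => hf (eq_of_add_eq_zero h).symm
    set t := f + act g f with ht
    obtain ⟨b, hb⟩ := exists_om_one ht0
    have txx : om t x = 0 := by rw [om_symm, ht, om_N hg, om_symm]; exact fu
    have tyy : om t y = 0 := by rw [om_symm, ht, om_N hg, om_symm]; exact fw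
    set b' := b + om b w • x + om b u • y with hb'
    have b'u : om b' u = 0 := by
      rw [hb', om_add', om_add', om_smul', om_smul', hxu, hyu, mul_zero, add_zero, mul_one]
      exact CharTwo.add_self_eq_zero _
    have b'w : om b' w = 0 := by
      rw [hb', om_add', om_add', om_smul', om_smul', hxw, hyw, mul_zero, add_zero, mul_one]
      exact CharTwo.add_self_eq_zero _
    have tb' : om t b' = 1 := by
      rw [hb', om_add, om_add, om_smul, om_smul, txx, tyy, mul_zero, mul_zero, add_zero, add_zero, hb]
    set s := b' + act g b' with hs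
    have sf : om s f = 1 := by rw [hs, ← om_N hg, ← ht, om_symm]; exact tb'
    have sx : om s x = 0 := by rw [om_symm, hs, om_N hg, om_symm]; exact b'u
    have sy : om s y = 0 := by rw [om_symm, hs, om_N hg, om_symm]; exact b'w
    -- t, s against u, w
    have hind : Ind u w t := by
      refine ⟨hu0, hw0, hwu, ht0, ?_, ?_, ?_⟩
      · intro h
        rw [h, om_symm, hyu] at tyy
        exact one_ne_zero tyy
      · intro h
        rw [h, om_symm, hxw] at txx
        exact one_ne_zero txx
      · intro h
        rw [h, om_add', om_symm u, om_symm w, hyu, hyw, add_zero] at tyy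
        exact one_ne_zero tyy
    have hor : Orth u w t := ⟨huw, NN x f, NN y f⟩
    obtain ⟨α, β, γ, e⟩ := maximal hind hor (NN b' x) (NN b' y) (NN b' f)
    have tf : om t f = 0 := by rw [om_symm]; exact Nself f
    have uf : om u f = 0 := by rw [om_symm]; exact fu
    have wf : om w f = 0 := by rw [om_symm]; exact fw
    have e' : s = α • u + β • w + γ • t := e
    rw [e', om_add', om_add', om_smul', om_smul', om_smul', uf, wf, tf, mul_zero, mul_zero, mul_zero, add_zero,
      add_zero] at sf
    exact zero_ne_one sf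
  apply act_ext
  intro a
  rw [tr3_apply huw]
  have hf := hfix (a + om a w • x + om a u • y) ?_ ?_
  · rw [act_add, act_add, act_smul, act_smul] at hf
    have gx : act g x = x + u := by rw [hu, ← add_assoc, add_self, zero_add]
    have gy : act g y = y + w := by rw [hw, ← add_assoc, add_self, zero_add]
    clear_value u w
    rw [gx, gy, smul_add, smul_add] at hf
    have h2 : act g a + (om a w • x + om a u • y) + (om a w • u + om a u • w) =
        a + (om a w • x + om a u • y) := by
      have e1 : act g a + (om a w • x + om a u • y) + (om a w • u + om a u • w) =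
          act g a + (om a w • x + om a w • u) + (om a u • y + om a u • w) := by abel
      rw [e1, hf, add_assoc]
    have h3 : act g a = act g a + (om a w • x + om a u • y) + (om a w • u + om a u • w) +
        ((om a w • x + om a u • y) + (om a w • u + om a u • w)) := by
      have : act g a + (om a w • x + om a u • y) + (om a w • u + om a u • w) +
        ((om a w • x + om a u • y) + (om a w • u + om a u • w)) =
        act g a + ((om a w • x + om a u • y) + (om a w • x + om a u • y)) +
          ((om a w • u + om a u • w) + (om a w • u + om a u • w)) := by abel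
      rw [this, add_self, add_self, add_zero, add_zero]
    rw [h3, h2]
    have h4 : a + (om a w • x + om a u • y) + ((om a w • x + om a u • y) + (om a w • u + om a u • w)) =
        a + ((om a w • x + om a u • y) + (om a w • x + om a u • y)) + (om a w • u + om a u • w) := by abel
    rw [h4, add_self, add_zero]
  · rw [om_add', om_add', om_smul', om_smul', hxu, hyu, mul_zero, add_zero, mul_one]
    exact CharTwo.add_self_eq_zero _
  · rw [om_add', om_add', om_smul', om_smul', hxw, hyw, mul_zero, add_zero, mul_one]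
    exact CharTwo.add_self_eq_zero _

/-- A vector fixed by an involution is orthogonal to all `a + g a`. -/
theorem om_fix {g : S} (hg : g * g = 1) {f : V} (hf : act g f = f) (a : V) : om f (a + act g a) = 0 := by
  rw [om_N hg, hf, add_self, om_symm, om_zero]

theorem om_fix' {g : S} (hg : g * g = 1) {f : V} (hf : act g f = f) (a : V) : om (a + act g a) f = 0 := by
  rw [om_symm]; exact om_fix hg hf a

theorem split {u : V} {g : S} : g = tr u * (tr u * g) := by
  rw [← mul_assoc, tr_sq, one_mul]

/-- The Fano relation. -/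
theorem fano_rel {x y w : V} (h1 : om x y = 0) (h2 : om x w = 0) (h3 : om y w = 0) :
    tr (x + y + w) * (tr (x + y) * (tr (x + w) * (tr (y + w) * (tr x * (tr y * tr w))))) = 1 :=
  Cfsg.Agent.LieClassical.SympPerfect.transv_fano (F := ZMod 2) (m := 3) (by decide) h1 h2 h3

theorem four_three {a b u : V} (ho : Orth a b u) : tr u * (tr a * tr b * tr (a + b)) =
    tr (a + u) * tr (b + u) * tr (a + b + u) := by
  obtain ⟨o1, o2, o3⟩ := ho
  have o1' : om b a = 0 := by rw [om_symm]; exact o1
  have o2' : om u a = 0 := by rw [om_symm]; exact o2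
  have o3' : om u b = 0 := by rw [om_symm]; exact o3
  have hf := fano_rel o1 o2 o3
  -- commutation
  have c1 : tr a * tr b = tr b * tr a := tr_comm o1
  have cc : ∀ p q : V, om p q = 0 → tr p * tr q = tr q * tr p := fun p q h => tr_comm h
  have k1 : om (a + b) a = 0 := by rw [om_add', om_self, o1', add_zero]
  have k2 : om (a + b) b = 0 := by rw [om_add', om_self, o1, add_zero]
  have k3 : om (a + b) u = 0 := by rw [om_add', o2, o3, add_zero]
  have inv_tr : ∀ p, (tr p)⁻¹ = tr p := fun p => inv_eq_of_mul_eq_one_right (tr_sq p)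
  have e : tr (a + b + u) * (tr (a + b) * (tr (a + u) * (tr (b + u) * (tr a * (tr b * tr u))))) =
      (tr (a + u) * tr (b + u) * tr (a + b + u)) * (tr u * (tr a * tr b * tr (a + b))) := by
    have m1 : om (a + b + u) (a + u) = 0 := by
      simp only [om_add, om_add', om_self, o1, o2, o3, o1', o2', o3', add_zero]
    have m2 : om (a + b + u) (b + u) = 0 := by
      simp only [om_add, om_add', om_self, o1, o2, o3, o1', o2', o3', add_zero]
    have m3 : om (a + b) (a + u) = 0 := by
      simp only [om_add, om_add', om_self, o1, o2, o3, o1', o2', o3', add_zero]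
    have m4 : om (a + b) (b + u) = 0 := by
      simp only [om_add, om_add', om_self, o1, o2, o3, o1', o2', o3', add_zero]
    have q1 := cc _ _ m1
    have q2 := cc _ _ m2
    have q3 := cc _ _ m3
    have q4 := cc _ _ m4
    have q5 := cc _ _ k1
    have q6 := cc _ _ k2
    have q7 := cc _ _ k3
    have q8 := cc _ _ o2'
    have q9 := cc _ _ o3'
    have m5 : om (a + b + u) (a + b) = 0 := by
      simp only [om_add, om_add', om_self, o1, o2, o3, o1', o2', o3', add_zero]
    have q10 := cc _ _ m5
    generalize tr (a + b + u) = A at *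
    generalize tr (a + b) = B at *
    generalize tr (a + u) = C at *
    generalize tr (b + u) = D at *
    generalize tr a = a' at *
    generalize tr b = b' at *
    generalize tr u = u' at *
    calc A * (B * (C * (D * (a' * (b' * u')))))
        = A * ((B * C) * (D * (a' * (b' * u')))) := by group
      _ = A * (C * (B * D) * (a' * (b' * u'))) := by rw [q3]; group
      _ = (A * C) * D * (B * a' * (b' * u')) := by rw [q4]; group
      _ = C * (A * D) * (B * a' * (b' * u')) := by rw [q1]; group
      _ = C * D * A * (B * a' * (b' * u')) := by rw [q2]; group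
      _ = C * D * A * (a' * (B * b') * u') := by rw [q5]; group
      _ = C * D * A * (a' * b' * (B * u')) := by rw [q6]; group
      _ = C * D * A * (a' * (b' * u') * B) := by rw [q7]; group
      _ = C * D * A * ((a' * u') * b' * B) := by rw [← q9]; group
      _ = C * D * A * (u' * (a' * b' * B)) := by rw [← q8]; group
  rw [e] at hf
  have := eq_inv_of_mul_eq_one_right hf
  rw [this, mul_inv_rev, mul_inv_rev, inv_tr, inv_tr, inv_tr]
  have m1 : om (a + b + u) (a + u) = 0 := by
    simp only [om_add, om_add', om_self, o1, o2, o3, o1', o2', o3', add_zero]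
  have m2 : om (a + b + u) (b + u) = 0 := by
    simp only [om_add, om_add', om_self, o1, o2, o3, o1', o2', o3', add_zero]
  have m3 : om (b + u) (a + u) = 0 := by
    simp only [om_add, om_add', om_self, o1, o2, o3, o1', o2', o3', add_zero]
  rw [cc _ _ m3, ← mul_assoc, cc _ _ m1, mul_assoc, cc _ _ m2, ← mul_assoc]

/-- Classification of the involutions of `Sp₆(2)`. -/
theorem classify {g : S} (hg : g * g = 1) (h1 : g ≠ 1) :
    (∃ u, u ≠ 0 ∧ g = tr u) ∨
    (∃ u w, u ≠ 0 ∧ w ≠ 0 ∧ w ≠ u ∧ om u w = 0 ∧ g = tr u * tr w) ∨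
    (∃ u w, u ≠ 0 ∧ w ≠ 0 ∧ w ≠ u ∧ om u w = 0 ∧ g = tr u * tr w * tr (u + w)) ∨
    (∃ u w t, Ind u w t ∧ Orth u w t ∧ g = tr u * tr w * tr t) := by
  by_cases h0 : ∀ x, om x (act g x) = 0
  · obtain ⟨u, w, -, -, a1, a2, a3, a4, -, -, a5⟩ := alternate hg h1 h0
    exact Or.inr (Or.inr (Or.inl ⟨u, w, a1, a2, a3, a4, a5⟩))
  push Not at h0
  obtain ⟨x, hx⟩ := h0
  have hx : om x (act g x) = 1 := (om_cases _ _).resolve_left hx
  obtain ⟨u, u0, -, ugu, gg1, gfix, g1x, xu⟩ := reduce hg hx
  have hgs : g = tr u * (tr u * g) := split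
  set g1 := tr u * g with hg1
  have g1u : act g1 u = u := (gfix u ugu).1
  clear_value g1
  subst hgs
  by_cases h10 : g1 = 1
  · left
    exact ⟨u, u0, by rw [h10, mul_one]⟩
  by_cases h0 : ∀ x, om x (act g1 x) = 0
  · obtain ⟨a, b, p, q, a1, a2, a3, a4, a6, a7, a5⟩ := alternate gg1 h10 h0
    right; right; right
    have au : om a u = 0 := by rw [a6]; exact om_fix' gg1 g1u p
    have bu : om b u = 0 := by rw [a7]; exact om_fix' gg1 g1u q
    have xa : om x a = 0 := by rw [a6]; exact om_fix gg1 g1x p
    have xb : om x b = 0 := by rw [a7]; exact om_fix gg1 g1x q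
    have ne : ∀ v, om x v = 0 → u ≠ v := by
      rintro v hv rfl
      rw [hv] at xu
      exact zero_ne_one xu
    have na := ne a xa
    have nb := ne b xb
    have nab := ne (a + b) (by rw [om_add, xa, xb, add_zero])
    have e := four_three (a := a) (b := b) (u := u) ⟨a4, au, bu⟩
    refine ⟨a + u, b + u, a + b + u, ⟨?_, ?_, ?_, ?_, ?_, ?_, ?_⟩, ⟨?_, ?_, ?_⟩, ?_⟩
    · exact fun h => na (eq_of_add_eq_zero h).symm
    · exact fun h => nb (eq_of_add_eq_zero h).symm
    · exact fun h => a3 (add_right_cancel h)
    · exact fun h => nab (eq_of_add_eq_zero h).symm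
    · intro h
      have := add_right_cancel h
      apply a2
      have h2 : a + b = a + 0 := by rw [this, add_zero]
      exact add_left_cancel h2
    · intro h
      have := add_right_cancel h
      apply a1
      have h2 : a + b = 0 + b := by rw [this, zero_add]
      exact add_right_cancel h2
    · intro h
      have h2 : a + u + (b + u) = a + b := by
        have : a + u + (b + u) = a + b + (u + u) := by abel
        rw [this, add_self, add_zero]
      rw [h2] at h
      apply u0
      have h3 : a + b + u = a + b + 0 := by rw [h, add_zero]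
      exact add_left_cancel h3
    · have ub : om u b = 0 := by rw [om_symm]; exact bu
      simp only [om_add, om_add', om_self, a4, au, ub, add_zero]
    · have ua : om u a = 0 := by rw [om_symm]; exact au
      have ub : om u b = 0 := by rw [om_symm]; exact bu
      simp only [om_add, om_add', om_self, a4, au, ub, ua, add_zero]
    · have ua : om u a = 0 := by rw [om_symm]; exact au
      have ub : om u b = 0 := by rw [om_symm]; exact bu
      have ba : om b a = 0 := by rw [om_symm]; exact a4
      simp only [om_add, om_add', om_self, ba, bu, ub, ua, add_zero]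
    · rw [a5]; exact e
  push Not at h0
  obtain ⟨x1, hx1⟩ := h0
  have hx1 : om x1 (act g1 x1) = 1 := (om_cases _ _).resolve_left hx1
  obtain ⟨w, w0, -, wgw, gg2, g1fix, g2x1, x1w⟩ := reduce gg1 hx1
  have hgs : g1 = tr w * (tr w * g1) := split
  set g2 := tr w * g1 with hg2
  obtain ⟨g2u, uw⟩ := g1fix u g1u
  obtain ⟨g2x, xw⟩ := g1fix x g1x
  obtain ⟨g2w, -⟩ := g1fix w wgw
  clear_value g2
  have wu : w ≠ u := by
    rintro rfl
    rw [xw] at xu
    exact zero_ne_one xu
  rw [hgs]
  clear hg1 gfix g1fix
  by_cases h20 : g2 = 1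
  · right; left
    exact ⟨u, w, u0, w0, wu, uw, by rw [h20, mul_one]⟩
  by_cases h0 : ∀ x, om x (act g2 x) = 0
  · exfalso
    obtain ⟨a, b, p, q, a1, a2, a3, a4, a6, a7, a5⟩ := alternate gg2 h20 h0
    have au : om a u = 0 := by rw [a6]; exact om_fix' gg2 g2u p
    have bu : om b u = 0 := by rw [a7]; exact om_fix' gg2 g2u q
    have xa : om x a = 0 := by rw [a6]; exact om_fix gg2 g2x p
    have xb : om x b = 0 := by rw [a7]; exact om_fix gg2 g2x q
    have x1a : om x1 a = 0 := by rw [a6]; exact om_fix gg2 g2x1 p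
    have x1b : om x1 b = 0 := by rw [a7]; exact om_fix gg2 g2x1 q
    have wa : om w a = 0 := by rw [a6]; exact om_fix gg2 g2w p
    have wb : om w b = 0 := by rw [a7]; exact om_fix gg2 g2w q
    have ne : ∀ v, om x v = 0 → u ≠ v := by
      rintro v hv rfl
      rw [hv] at xu
      exact zero_ne_one xu
    have na := ne a xa
    have nb := ne b xb
    have nab := ne (a + b) (by rw [om_add, xa, xb, add_zero])
    obtain ⟨α, β, γ, e⟩ := maximal (u := a) (w := b) (t := u) (s := w) ⟨a1, a2, a3, u0, na, nb, nab⟩ ⟨a4, au, bu⟩ wa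
      wb (by rw [om_symm]; exact uw)
    have e1 := congrArg (om x) e
    have e2 := congrArg (om x1) e
    simp only [om_add, om_smul, xa, xb, xu, xw, x1a, x1b, x1w, mul_zero, mul_one, zero_add] at e1 e2
    rw [← e1, zero_mul] at e2
    exact one_ne_zero e2
  push Not at h0
  obtain ⟨x2, hx2⟩ := h0
  have hx2 : om x2 (act g2 x2) = 1 := (om_cases _ _).resolve_left hx2
  obtain ⟨t, t0, -, tgt, gg3, g2fix, g3x2, x2t⟩ := reduce gg2 hx2
  have hgs : g2 = tr t * (tr t * g2) := split
  set g3 := tr t * g2 with hg3
  obtain ⟨g3u, ut⟩ := g2fix u g2u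
  obtain ⟨g3w, wt⟩ := g2fix w g2w
  obtain ⟨g3x, xt⟩ := g2fix x g2x
  obtain ⟨g3x1, x1t⟩ := g2fix x1 g2x1
  obtain ⟨g3t, -⟩ := g2fix t tgt
  clear_value g3
  have tu : t ≠ u := by
    rintro rfl
    rw [xt] at xu
    exact zero_ne_one xu
  have tw : t ≠ w := by
    rintro rfl
    rw [x1t] at x1w
    exact zero_ne_one x1w
  have tuw : t ≠ u + w := by
    rintro rfl
    rw [om_add, xu, xw, add_zero] at xt
    exact one_ne_zero xt
  have hind : Ind u w t := ⟨u0, w0, wu, t0, tu, tw, tuw⟩
  have hor : Orth u w t := ⟨uw, ut, wt⟩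
  right; right; right
  refine ⟨u, w, t, hind, hor, ?_⟩
  have h30 : g3 = 1 := by
    apply act_ext
    intro y
    rw [act_one]
    by_contra hy
    have hs : y + act g3 y ≠ 0 := fun h => hy (eq_of_add_eq_zero h).symm
    apply hs
    obtain ⟨α, β, γ, e⟩ := maximal hind hor (om_fix' gg3 g3u y) (om_fix' gg3 g3w y) (om_fix' gg3 g3t y)
    have e1 := congrArg (om x) e
    have e2 := congrArg (om x1) e
    have e3 := congrArg (om x2) e
    rw [om_fix gg3 g3x] at e1
    rw [om_fix gg3 g3x1] at e2
    rw [om_fix gg3 g3x2] at e3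
    simp only [om_add, om_smul, xu, xw, xt, x1w, x1t, x2t, mul_zero, mul_one, add_zero] at e1 e2 e3
    rw [← e1, zero_mul, zero_add] at e2
    rw [← e1, ← e2, zero_mul, zero_mul, zero_add, zero_add] at e3
    rw [e, ← e1, ← e2, ← e3, zero_smul, zero_smul, zero_smul, add_zero, add_zero]
  rw [hgs, h30, mul_one, mul_assoc]

end Cfsg.Agent.SporRec.TwoSp6.Invol
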