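import Mathlib
import Cfsg.Agent.S1093

/-!
# Quotients of the Coxeter group of type E₇ by the ninth power of the Coxeter element

A group generated by seven elements satisfying the Coxeter relations of type `E₇` and `(r₀ ⋯ r₆)⁹ = 1` has order at
most `1451520`.
-/

set_option autoImplicit false

namespace Cfsg.Agent.SporRec.TwoSp6.Cox

/-- the Coxeter matrix -/
abbrev M : CoxeterMatrix (Fin 7) := CoxeterMatrix.E₇

theorem card_W : Nat.card M.Group = 2903040 :=
  Cfsg.Agent.S1093.result (⟨7, CoxeterMatrix.E₇⟩, 2903040) (by simp)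

/-- The product of the seven elements in the order of the nodes. -/
def prod7 {G : Type*} [Monoid G] (r : Fin 7 → G) : G := r 0 * r 1 * r 2 * r 3 * r 4 * r 5 * r 6

theorem map_prod7 {G H : Type*} [Monoid G] [Monoid H] (f : G →* H) (r : Fin 7 → G) :
    f (prod7 r) = prod7 fun i => f (r i) := by
  unfold prod7; simp only [map_mul]

/-- the Coxeter system -/
noncomputable def cs : CoxeterSystem M M.Group := M.toCoxeterSystem

/-- the ninth power of the Coxeter element is not trivial -/
theorem prod7_pow_ne : (prod7 cs.simple) ^ 9 ≠ 1 := by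
  intro h
  have h1 := congrArg cs.lengthParity h
  rw [map_pow, map_prod7, map_one] at h1
  simp only [CoxeterSystem.lengthParity_simple] at h1
  unfold prod7 at h1
  have h2 := congrArg Multiplicative.toAdd h1
  revert h2
  decide

theorem card_le {Q : Type*} [Group Q] (r : Fin 7 → Q) (hr : M.IsLiftable r) (h9 : (prod7 r) ^ 9 = 1)
    (hgen : Subgroup.closure (Set.range r) = ⊤) : Finite Q ∧ Nat.card Q ≤ 1451520 := by
  set f : M.Group →* Q := cs.lift ⟨r, hr⟩ with hf
  have hfs : ∀ i, f (cs.simple i) = r i := fun i => cs.lift_apply_simple hr i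
  have hsurj : Function.Surjective f := by
    rw [← MonoidHom.range_eq_top, eq_top_iff, ← hgen, Subgroup.closure_le]
    rintro _ ⟨i, rfl⟩
    exact ⟨cs.simple i, hfs i⟩
  have : Finite M.Group := Nat.finite_of_card_ne_zero (by rw [card_W]; norm_num)
  have : Finite Q := Finite.of_surjective f hsurj
  refine ⟨inferInstance, ?_⟩
  have hker : (prod7 cs.simple) ^ 9 ∈ f.ker := by
    rw [MonoidHom.mem_ker, map_pow, map_prod7]
    simp only [hfs]
    exact h9
  have h1 : Nat.card f.ker ≠ 1 := by
    intro h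
    rw [Subgroup.card_eq_one] at h
    rw [h, Subgroup.mem_bot] at hker
    exact prod7_pow_ne hker
  have h2 : 0 < Nat.card f.ker := Nat.card_pos
  have h3 : Nat.card M.Group = Nat.card (M.Group ⧸ f.ker) * Nat.card f.ker :=
    Subgroup.card_eq_card_quotient_mul_card_subgroup _
  have h4 : Nat.card (M.Group ⧸ f.ker) = Nat.card Q :=
    Nat.card_congr (QuotientGroup.quotientKerEquivOfSurjective f hsurj).toEquiv
  rw [card_W, h4] at h3
  have h5 : Nat.card Q * 2 ≤ Nat.card Q * Nat.card f.ker := Nat.mul_le_mul_left _ (by omega)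
  omega

/-- The Coxeter matrix as a table of natural numbers. -/
def m7 (i j : Fin 7) : ℕ :=
  ([[1, 2, 3, 2, 2, 2, 2], [2, 1, 2, 3, 2, 2, 2], [3, 2, 1, 3, 2, 2, 2], [2, 3, 3, 1, 3, 2, 2],
    [2, 2, 2, 3, 1, 3, 2], [2, 2, 2, 2, 3, 1, 3], [2, 2, 2, 2, 2, 3, 1]].getD i.val []).getD j.val 0

theorem M_eq (i j : Fin 7) : M i j = m7 i j := by
  fin_cases i <;> fin_cases j <;> simp [CoxeterMatrix.E₇, m7, M]

theorem m7_cases : ∀ i j : Fin 7, (m7 i j = 1 ∧ i = j) ∨ m7 i j = 2 ∨ m7 i j = 3 := by decide

/-- Coxeter relations in terms of squares, commutation and braids. -/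
theorem liftable_of {Q : Type*} [Group Q] (r : Fin 7 → Q) (h1 : ∀ i, r i * r i = 1)
    (h2 : ∀ i j, m7 i j = 2 → r i * r j = r j * r i) (h3 : ∀ i j, m7 i j = 3 → r i * r j * r i = r j * r i * r j) :
    M.IsLiftable r := by
  intro i j
  rcases m7_cases i j with ⟨h, rfl⟩ | h | h
  · show (r i * r i) ^ (M i i) = 1
    rw [M_eq, h, pow_one, h1]
  · show (r i * r j) ^ (M i j) = 1
    rw [M_eq, h, pow_two]
    calc r i * r j * (r i * r j) = r i * (r j * r i) * r j := by group
      _ = r i * (r i * r j) * r j := by rw [h2 i j h]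
      _ = (r i * r i) * (r j * r j) := by group
      _ = 1 := by rw [h1, h1, one_mul]
  · show (r i * r j) ^ (M i j) = 1
    rw [M_eq, h]
    calc (r i * r j) ^ 3 = (r i * r j * r i) * (r j * r i * r j) := by
          rw [pow_succ, pow_two]; simp only [mul_assoc]
      _ = (r j * r i * r j) * (r j * r i * r j) := by rw [h3 i j h]
      _ = r j * r i * (r j * r j) * r i * r j := by group
      _ = r j * (r i * r i) * r j := by rw [h1]; group
      _ = 1 := by rw [h1, mul_one, h1]

end Cfsg.Agent.SporRec.TwoSp6.Cox
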