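import Cfsg.Agent.LieClassical.SympPerfect
import Cfsg.Agent.S0245
import Cfsg.Agent.S0765
import Cfsg.Agent.SporRec.TwoSp6.Cox

/-!
# Seven transvections of `Sp₆(2)` satisfying the relations of type `E₇`
-/

set_option autoImplicit false

namespace Cfsg.Agent.SporRec.TwoSp6.Sp

open Cfsg Cfsg.Agent.ClassicalGeometry.SympBasic Cfsg.Agent.LieClassical.SympPerfect
open Cfsg.Agent.SporRec.TwoSp6.Cox
open scoped Matrix

/-- The natural module. -/
abbrev V := Fin 3 ⊕ Fin 3 → ZMod 2

/-- The symplectic group `Sp₆(2)`. -/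
abbrev S := Matrix.symplecticGroup (Fin 3) (ZMod 2)

/-- The form. -/
abbrev om (u v : V) : ZMod 2 := sympForm 3 (ZMod 2) u v

/-- The transvection of `u`. -/
def tr (u : V) : S := transv u 1

/-- The action. -/
def act (g : S) (x : V) : V := (g : Matrix (Fin 3 ⊕ Fin 3) (Fin 3 ⊕ Fin 3) (ZMod 2)) *ᵥ x

theorem act_one (x : V) : act 1 x = x := Matrix.one_mulVec x

theorem act_mul (g h : S) (x : V) : act (g * h) x = act g (act h x) := coe_mul_mulVec g h x

theorem act_ext {g h : S} (H : ∀ x, act g x = act h x) : g = h := ext_mulVec H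

theorem act_add (g : S) (x y : V) : act g (x + y) = act g x + act g y := Matrix.mulVec_add _ _ _

theorem act_om (g : S) (x y : V) : om (act g x) (act g y) = om x y := sympForm_mulVec g.2 x y

theorem act_tr (u x : V) : act (tr u) x = x + om x u • u := by
  show sympTransvection 3 u 1 *ᵥ x = _
  rw [sympTransvection_mulVec, one_mul]

theorem conj_tr (g : S) (u : V) : g * tr u * g⁻¹ = tr (act g u) := conj_transv g u 1

theorem add_self (u : V) : u + u = 0 := by
  funext i
  show u i + u i = 0
  exact CharTwo.add_self_eq_zero _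

theorem om_symm (u v : V) : om u v = om v u := by
  show sympForm 3 (ZMod 2) u v = sympForm 3 (ZMod 2) v u
  rw [sympForm_swap, CharTwo.neg_eq]

theorem om_self (u : V) : om u u = 0 := sympForm_self u

theorem om_cases (u v : V) : om u v = 0 ∨ om u v = 1 := by
  generalize om u v = a
  revert a; decide

theorem tr_sq (u : V) : tr u * tr u = 1 := by
  show transv u (1 : ZMod 2) * transv u 1 = 1
  rw [transv_mul]
  have : (1 : ZMod 2) + 1 = 0 := by decide
  rw [this, transv_zero]

theorem tr_zero : tr 0 = 1 := by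
  apply act_ext
  intro x
  rw [act_tr, act_one, smul_zero, add_zero]

theorem tr_comm {u v : V} (h : om u v = 0) : tr u * tr v = tr v * tr u := by
  have h1 := conj_tr (tr u) v
  rw [act_tr, om_symm, h, zero_smul, add_zero] at h1
  rw [← h1, inv_mul_cancel_right]
  rw [h1]

theorem tr_braid {u v : V} (h : om u v = 1) : tr u * tr v * tr u = tr v * tr u * tr v := by
  have h1 := conj_tr (tr u) v
  have h2 := conj_tr (tr v) u
  have i1 : (tr u)⁻¹ = tr u := inv_eq_of_mul_eq_one_right (tr_sq u)
  have i2 : (tr v)⁻¹ = tr v := inv_eq_of_mul_eq_one_right (tr_sq v)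
  rw [act_tr, om_symm, h, one_smul, i1] at h1
  rw [act_tr, h, one_smul, i2] at h2
  rw [h1, h2, add_comm]

/-! ### coded vectors -/

/-- A bit as an element of `ZMod 2`. -/
def bitf (c k : ℕ) : ZMod 2 := if c.testBit k then 1 else 0

/-- The vector with the given code. -/
def enc (c : ℕ) : V := Sum.elim (fun i => bitf c i.val) (fun i => bitf c (3 + i.val))

theorem bitf_xor (c d k : ℕ) : bitf (c ^^^ d) k = bitf c k + bitf d k := by
  unfold bitf
  rw [Nat.testBit_xor]
  cases c.testBit k <;> cases d.testBit k <;> decide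

theorem enc_xor (c d : ℕ) : enc (c ^^^ d) = enc c + enc d := by
  funext i
  rcases i with i | i
  · exact bitf_xor c d i.val
  · exact bitf_xor c d (3 + i.val)

/-- The codes of the seven vectors. -/
def vc (i : Fin 7) : ℕ := [1, 48, 8, 3, 16, 6, 32].getD i.val 0

/-- The seven vectors. -/
def v (i : Fin 7) : V := enc (vc i)

/-- The form on codes. -/
def fN (c d : ℕ) : Bool :=
  ((c.testBit 0 && d.testBit 3) ^^ (c.testBit 3 && d.testBit 0)) ^^
  (((c.testBit 1 && d.testBit 4) ^^ (c.testBit 4 && d.testBit 1)) ^^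
  ((c.testBit 2 && d.testBit 5) ^^ (c.testBit 5 && d.testBit 2)))

theorem om_enc (c d : ℕ) : om (enc c) (enc d) = if fN c d then 1 else 0 := by
  show sympForm 3 (ZMod 2) _ _ = _
  rw [sympForm_eq_sum, Fin.sum_univ_three]
  have e1 : ∀ (c : ℕ) (i : Fin 3), enc c (Sum.inl i) = bitf c i.val := fun _ _ => rfl
  have e2 : ∀ (c : ℕ) (i : Fin 3), enc c (Sum.inr i) = bitf c (3 + i.val) := fun _ _ => rfl
  simp only [e1, e2, Fin.val_zero, Fin.val_one, Fin.val_two, Nat.add_zero, Nat.reduceAdd]
  have key : ∀ a b c d : Bool, (if a then (1 : ZMod 2) else 0) * (if b then 1 else 0) -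
      (if c then 1 else 0) * (if d then 1 else 0) = if ((c && d) ^^ (a && b)) then 1 else 0 := by decide
  have key2 : ∀ a b : Bool, (if a then (1 : ZMod 2) else 0) + (if b then 1 else 0) = if (a ^^ b) then 1 else 0 := by
    decide
  unfold bitf fN
  rw [key, key, key, key2, key2, Bool.xor_assoc]

/-- The reflection on codes. -/
def st (i : Fin 7) (c : ℕ) : ℕ := if fN c (vc i) then c ^^^ vc i else c

theorem act_enc (i : Fin 7) (c : ℕ) : act (tr (v i)) (enc c) = enc (st i c) := by
  rw [act_tr]
  show enc c + om (enc c) (enc (vc i)) • enc (vc i) = _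
  rw [om_enc]
  unfold st
  by_cases h : fN c (vc i)
  · rw [if_pos h, if_pos h, one_smul, enc_xor]
  · rw [if_neg h, if_neg h, zero_smul, add_zero]

theorem om_v (i j : Fin 7) : om (v i) (v j) = if fN (vc i) (vc j) then 1 else 0 := om_enc _ _

theorem fN_m7 : ∀ i j : Fin 7, fN (vc i) (vc j) = decide (m7 i j = 3) := by decide

theorem om_v' (i j : Fin 7) : om (v i) (v j) = if m7 i j = 3 then 1 else 0 := by
  rw [om_v, fN_m7]
  simp

/-- Every vector has a code. -/
theorem exists_enc (x : V) : ∃ c < 64, x = enc c := by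
  have key : ∀ x : V, ∃ c : Fin 64, x = enc c := by decide +kernel
  obtain ⟨c, hc⟩ := key x
  exact ⟨c, c.2, hc⟩

/-- The Coxeter element on codes. -/
def cox (c : ℕ) : ℕ := st 0 (st 1 (st 2 (st 3 (st 4 (st 5 (st 6 c))))))

theorem act_prod7 (c : ℕ) : act (prod7 fun i => tr (v i)) (enc c) = enc (cox c) := by
  unfold prod7 cox
  simp only [act_mul, act_enc]

theorem cox_nine : ∀ c < 64, cox (cox (cox (cox (cox (cox (cox (cox (cox c)))))))) = c := by decide +kernel

theorem prod7_pow : (prod7 fun i => tr (v i)) ^ 9 = 1 := by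
  apply act_ext
  intro x
  obtain ⟨c, hc, rfl⟩ := exists_enc x
  rw [act_one]
  have e : ∀ g : S, g ^ 9 = g * (g * (g * (g * (g * (g * (g * (g * g))))))) := by
    intro g
    simp only [pow_succ', pow_zero, mul_one]
  rw [e]
  simp only [act_mul, act_prod7]
  rw [cox_nine c hc]

/-! ### generation and order -/

/-- Depth of the coded vectors over the seven vectors. -/
def dep (c : ℕ) : ℕ :=
  [0, 0, 12, 0, 10, 4, 0, 8, 0, 1, 2, 1, 6, 5, 6, 7, 0, 10, 11, 1, 10, 2, 1, 9, 8, 9, 3, 2, 4, 3, 7, 8, 0, 6, 12, 2,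
    11, 3, 1, 7, 4, 5, 4, 3, 5, 4, 5, 6, 0, 14, 13, 1, 9, 3, 2, 8, 16, 15, 3, 2, 5, 4, 6, 7].getD c 0

theorem dep_step : ∀ c < 64, c ≠ 0 → (∃ i : Fin 7, c = vc i) ∨
    ∃ i : Fin 7, dep (st i c) < dep c ∧ st i c ≠ 0 ∧ st i c < 64 ∧ st i (st i c) = c := by decide +kernel

/-- A property of nonzero vectors which holds for the seven vectors and is invariant under the seven transvections
holds for all nonzero vectors. -/
theorem reach (P : V → Prop) (h0 : ∀ i, P (v i)) (h1 : ∀ i x, x ≠ 0 → P x → P (act (tr (v i)) x)) :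
    ∀ x, x ≠ 0 → P x := by
  have enc_ne : ∀ c < 64, c ≠ 0 → enc c ≠ 0 := by decide +kernel
  have key : ∀ n c, dep c < n → c < 64 → c ≠ 0 → P (enc c) := by
    intro n
    induction n with
    | zero => intro c h; exact absurd h (Nat.not_lt_zero _)
    | succ n ih =>
      intro c hn hc hc0
      rcases dep_step c hc hc0 with ⟨i, hi⟩ | ⟨i, h2, h3, h4, h5⟩
      · rw [hi]; exact h0 i
      · have := h1 i _ (enc_ne _ h4 h3) (ih (st i c) (by omega) h4 h3)
        rwa [act_enc, h5] at this
  intro x hx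
  obtain ⟨c, hc, rfl⟩ := exists_enc x
  refine key _ c (Nat.lt_succ_self _) hc ?_
  rintro rfl
  apply hx
  funext i
  rcases i with i | i <;> simp [enc, bitf]

theorem v_ne (i : Fin 7) : v i ≠ 0 := by
  have : ∀ i : Fin 7, v i ≠ 0 := by decide +kernel
  exact this i

/-- The seven transvections generate `Sp₆(2)`. -/
theorem closure_v : Subgroup.closure (Set.range fun i => tr (v i)) = ⊤ := by
  have hmem : ∀ x : V, x ≠ 0 → tr x ∈ Subgroup.closure (Set.range fun i => tr (v i)) := by
    apply reach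
    · intro i
      exact Subgroup.subset_closure ⟨i, rfl⟩
    · intro i x _ hx
      rw [← conj_tr]
      have hi : tr (v i) ∈ Subgroup.closure (Set.range fun i => tr (v i)) := Subgroup.subset_closure ⟨i, rfl⟩
      exact mul_mem (mul_mem hi hx) (inv_mem hi)
  rw [eq_top_iff, ← Cfsg.Agent.S0765.result (F := ZMod 2) 3, Subgroup.closure_le]
  rintro A ⟨w, c, hA⟩
  have hA' : A = transv w c := Subtype.ext hA
  have hc : c = 0 ∨ c = 1 := by
    have : ∀ c : ZMod 2, c = 0 ∨ c = 1 := by decide
    exact this c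
  rcases hc with rfl | rfl
  · rw [hA', transv_zero]; exact one_mem _
  · by_cases hw : w = 0
    · have : A = 1 := by rw [hA', hw]; exact tr_zero
      rw [this]; exact one_mem _
    · rw [hA']; exact hmem w hw

theorem card_S : Nat.card S = 1451520 := by
  have h := Cfsg.Agent.S0245.result (F := ZMod 2) (q := 2) (by simp [ZMod.card]) 3
  rw [h]
  decide

/-! ### transitivity -/

theorem exists_act {u w : V} (hu : u ≠ 0) (hw : w ≠ 0) : ∃ g : S, act g u = w := by
  obtain ⟨A, -, hA⟩ := exists_transvGroup_mulVec_eq (F := ZMod 2) hu hw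
  exact ⟨A, hA⟩

theorem exists_om_one {x : V} (hx : x ≠ 0) : ∃ a, om x a = 1 := by
  by_contra h
  push Not at h
  apply hx
  apply eq_zero_of_forall_sympForm_right
  intro w
  rcases om_cases x w with h1 | h1
  · exact h1
  · exact absurd h1 (h w)

theorem om_add (x y w : V) : om x (y + w) = om x y + om x w := sympForm_add_right x y w

theorem om_add' (x y w : V) : om (x + y) w = om x w + om y w := sympForm_add_left x y w

theorem exists_om_one_zero {x u : V} (hx : x ≠ 0) (hxu : x ≠ u) : ∃ a, om x a = 1 ∧ om u a = 0 := by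
  obtain ⟨a, ha⟩ := exists_om_one hx
  rcases om_cases u a with h | h
  · exact ⟨a, ha, h⟩
  · have hne : x + u ≠ 0 := by
      intro h0
      apply hxu
      have : x + u + u = u := by rw [h0, zero_add]
      rw [add_assoc, add_self, add_zero] at this
      exact this
    obtain ⟨b, hb⟩ := exists_om_one hne
    rw [om_add'] at hb
    rcases om_cases u b with h2 | h2
    · refine ⟨b, ?_, h2⟩
      rwa [h2, add_zero] at hb
    · refine ⟨a + b, ?_, ?_⟩
      · rw [om_add, ha]
        rcases om_cases x b with h3 | h3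
        · rw [h3, add_zero]
        · rw [h3, h2] at hb
          exact absurd hb (by decide)
      · rw [om_add, h, h2]; decide

theorem exists_fix {u x y : V} (hx : x ≠ 0) (hxu : x ≠ u) (h1 : om u x = 0) (hy : y ≠ 0) (hyu : y ≠ u)
    (h2 : om u y = 0) : ∃ g : S, act g u = u ∧ act g x = y := by
  have key : ∀ x y : V, om u x = 0 → om u y = 0 → om x y = 1 → act (tr (x + y)) u = u ∧ act (tr (x + y)) x = y := by
    intro x y hx hy h
    constructor
    · rw [act_tr, om_add, hx, hy, add_zero, zero_smul, add_zero]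
    · rw [act_tr, om_add, om_self, h, zero_add, one_smul, ← add_assoc, add_self, zero_add]
  rcases om_cases x y with h | h
  · obtain ⟨a, ha, hau⟩ := exists_om_one_zero hx hxu
    obtain ⟨b, hb, hbu⟩ := exists_om_one_zero hy hyu
    have ht : ∃ t, om x t = 1 ∧ om y t = 1 ∧ om u t = 0 := by
      rcases om_cases y a with h3 | h3
      · rcases om_cases x b with h4 | h4
        · refine ⟨a + b, ?_, ?_, ?_⟩
          · rw [om_add, ha, h4, add_zero]
          · rw [om_add, h3, hb, zero_add]
          · rw [om_add, hau, hbu, add_zero]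
        · exact ⟨b, h4, hb, hbu⟩
      · exact ⟨a, ha, h3, hau⟩
    obtain ⟨t, t1, t2, t3⟩ := ht
    obtain ⟨k1, k2⟩ := key x t h1 t3 t1
    obtain ⟨k3, k4⟩ := key t y t3 h2 (by rw [om_symm]; exact t2)
    refine ⟨tr (t + y) * tr (x + t), ?_, ?_⟩
    · rw [act_mul, k1, k3]
    · rw [act_mul, k2, k4]
  · exact ⟨_, key x y h1 h2 h⟩

/-- `Sp₆(2)` is transitive on the ordered pairs of distinct orthogonal nonzero vectors. -/
theorem exists_pair {u w u' w' : V} (hu : u ≠ 0) (hw : w ≠ 0) (hne : w ≠ u) (h : om u w = 0)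
    (hu' : u' ≠ 0) (hw' : w' ≠ 0) (hne' : w' ≠ u') (h' : om u' w' = 0) :
    ∃ g : S, act g u = u' ∧ act g w = w' := by
  obtain ⟨g, hg⟩ := exists_act hu hu'
  have h1 : act g w ≠ 0 := by
    intro h0
    apply hw
    have := congrArg (act g⁻¹) h0
    rw [← act_mul, inv_mul_cancel, act_one] at this
    rw [this]
    exact Matrix.mulVec_zero _
  have h2 : act g w ≠ u' := by
    intro h0
    rw [← hg] at h0
    apply hne
    have := congrArg (act g⁻¹) h0
    rwa [← act_mul, ← act_mul, inv_mul_cancel, act_one, act_one] at this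
  have h3 : om u' (act g w) = 0 := by rw [← hg, act_om, h]
  obtain ⟨k, hk, hk'⟩ := exists_fix h1 h2 h3 hw' hne' h'
  exact ⟨k * g, by rw [act_mul, hg, hk], by rw [act_mul, hk']⟩

/-! ### the Fano relation -/

/-- The codes of the seven nonzero vectors of a maximal isotropic subspace. -/
def fano : List ℕ := [7, 3, 5, 6, 1, 2, 4]

theorem fano_prod : (fano.map fun c => tr (enc c)).prod = 1 := by
  have h := transv_fano (F := ZMod 2) (m := 3) (by decide) (x := enc 1) (y := enc 2) (z := enc 4)
    ((om_enc 1 2).trans (by decide)) ((om_enc 1 4).trans (by decide)) ((om_enc 2 4).trans (by decide))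
  have e3 : enc 3 = enc 1 + enc 2 := enc_xor 1 2
  have e5 : enc 5 = enc 1 + enc 4 := enc_xor 1 4
  have e6 : enc 6 = enc 2 + enc 4 := enc_xor 2 4
  have e7 : enc 7 = enc 1 + enc 2 + enc 4 := by rw [← e3]; exact enc_xor 3 4
  simp only [fano, List.map_cons, List.map_nil, List.prod_cons, List.prod_nil, mul_one, e3, e5, e6, e7]
  exact h

theorem fano_orth : ∀ c ∈ fano, ∀ d ∈ fano, om (enc c) (enc d) = 0 := by
  intro c hc d hd
  rw [om_enc]
  have : ∀ c ∈ fano, ∀ d ∈ fano, fN c d = false := by decide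
  rw [this c hc d hd]
  rfl

end Cfsg.Agent.SporRec.TwoSp6.Sp
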