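import Cfsg.Agent.SporRec.TwoSp6.Invol

/-!
# Involutions of the non-split double cover of `Sp₆(2)`

`Ext.NS`: in the non-split cover the lifts of transvections square to `z` and lifts of commuting distinct transvections
anticommute. The involutions other than `z` are the lifts of `tr u * tr w * tr (u + w)` (`IsA`) and of
`tr u * tr w * tr t` (`IsB`); both form a class of `C`, and the latter are not squares.
-/

set_option autoImplicit false
set_option linter.unusedSimpArgs false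

namespace Cfsg.Agent.SporRec.TwoSp6.CInvol

open Cfsg.Agent.SporRec.TwoSp6.Cox Cfsg.Agent.SporRec.TwoSp6.Sp Cfsg.Agent.SporRec.TwoSp6.Lift
  Cfsg.Agent.SporRec.TwoSp6.Main Cfsg.Agent.SporRec.TwoSp6.Invol

/-- Non-split central extension of `Sp₆(2)` by `{1, z}`. -/
structure NS {C : Type*} [Group C] (z : C) (π : C →* S) : Prop extends Ext z π where
  sq : ∀ u : V, u ≠ 0 → ∀ x : C, π x = tr u → x * x = z
  anti : ∀ u w : V, u ≠ 0 → w ≠ 0 → w ≠ u → om u w = 0 → ∀ x y : C, π x = tr u → π y = tr w → x * y = z * (y * x)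

section

variable {C : Type*} [Group C] {z : C} {π : C →* S}

theorem NS.of_rels (E : Ext z π) {a : Fin 7 → C} (ha : ∀ i, π (a i) = tr (v i)) (R : Rels z a) : NS z π := by
  obtain ⟨ε, hε, h1⟩ := E.exists_eps
  obtain ⟨δ, hδ, h2⟩ := E.exists_del
  have hεδ := E.eps_eq_del hε hδ h1 h2
  have hεz : ε = z := by
    rw [← h1 _ (v_ne 0) _ (ha 0), R.sq]
  refine { E with sq := ?_, anti := ?_ }
  · intro u hu x hx
    rw [h1 u hu x hx, hεz]
  · intro u w hu hw hne ho x y hx hy
    rw [h2 u w hu hw hne ho x y hx hy, ← hεδ, hεz]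

variable (z π) in
/-- Lift of an involution `tr u * tr w * tr (u + w)`. -/
def IsA (y : C) : Prop := ∃ u w : V, u ≠ 0 ∧ w ≠ 0 ∧ w ≠ u ∧ om u w = 0 ∧ π y = tr u * tr w * tr (u + w)

variable (z π) in
/-- Lift of an involution `tr u * tr w * tr t` with independent orthogonal vectors. -/
def IsB (y : C) : Prop := ∃ u w t : V, Ind u w t ∧ Orth u w t ∧ π y = tr u * tr w * tr t

theorem NS.sq_two (N : NS z π) {u w : V} (hu : u ≠ 0) (hw : w ≠ 0) (hne : w ≠ u) (ho : om u w = 0) {y : C}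
    (hy : π y = tr u * tr w) : y * y = z := by
  obtain ⟨p, hp⟩ := N.surj (tr u)
  obtain ⟨q, hq⟩ := N.surj (tr w)
  have h1 : π (p * q) = π y := by rw [map_mul, hp, hq, hy]
  have h2 := N.toExt.sq_prod (ε := z) (δ := z) (Or.inr rfl) (Or.inr rfl) [p, q]
    (by simpa using N.anti u w hu hw hne ho p q hp hq)
    (by
      intro x hx
      simp only [List.mem_cons, List.not_mem_nil, or_false] at hx
      rcases hx with rfl | rfl
      · exact N.sq _ hu _ hp
      · exact N.sq _ hw _ hq)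
  have h3 : (p * q) * (p * q) = z := by
    have : [p, q].prod = p * q := by simp
    rw [this] at h2
    rw [h2]
    have e : ∀ n : ℕ, n = 2 → z ^ (n * (n - 1) / 2) * z ^ n = z := by
      rintro _ rfl
      rw [show 2 * (2 - 1) / 2 = 1 from rfl, pow_one, pow_two, N.z_sq, mul_one]
    exact e _ rfl
  rcases N.toExt.eq_or h1 with h | h
  · rw [h, h3]
  · rw [h, N.toExt.z_mul_sq, h3]

theorem NS.sq_three (N : NS z π) {u w t : V} (hu : u ≠ 0) (hw : w ≠ 0) (hne : w ≠ u) (ht : t ≠ 0) (htu : t ≠ u)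
    (htw : t ≠ w) (h1 : om u w = 0) (h2 : om u t = 0) (h3 : om w t = 0) {y : C}
    (hy : π y = tr u * tr w * tr t) : y * y = 1 := by
  obtain ⟨p, hp⟩ := N.surj (tr u)
  obtain ⟨q, hq⟩ := N.surj (tr w)
  obtain ⟨r, hr⟩ := N.surj (tr t)
  have k1 : π (p * q * r) = π y := by rw [map_mul, map_mul, hp, hq, hr, hy]
  have k2 := N.toExt.sq_prod (ε := z) (δ := z) (Or.inr rfl) (Or.inr rfl) [p, q, r]
    (by
      refine List.Pairwise.cons ?_ (List.Pairwise.cons ?_ (List.pairwise_singleton _ _))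
      · intro x hx
        simp only [List.mem_cons, List.not_mem_nil, or_false] at hx
        rcases hx with rfl | rfl
        · exact N.anti u w hu hw hne h1 p _ hp hq
        · exact N.anti u t hu ht htu h2 p _ hp hr
      · intro x hx
        simp only [List.mem_cons, List.not_mem_nil, or_false] at hx
        subst hx
        exact N.anti w t hw ht htw h3 q _ hq hr)
    (by
      intro x hx
      simp only [List.mem_cons, List.not_mem_nil, or_false] at hx
      rcases hx with rfl | rfl | rfl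
      · exact N.sq _ hu _ hp
      · exact N.sq _ hw _ hq
      · exact N.sq _ ht _ hr)
  have k3 : (p * q * r) * (p * q * r) = 1 := by
    have : [p, q, r].prod = p * q * r := by simp [mul_assoc]
    rw [this] at k2
    rw [k2]
    have e : ∀ n : ℕ, n = 3 → z ^ (n * (n - 1) / 2) * z ^ n = 1 := by
      rintro _ rfl
      rw [show 3 * (3 - 1) / 2 = 3 from rfl, ← pow_add, show 3 + 3 = 2 * 3 from rfl, pow_mul, pow_two, N.z_sq, one_pow]
    exact e _ rfl
  rcases N.toExt.eq_or k1 with h | h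
  · rw [h, k3]
  · rw [h, N.toExt.z_mul_sq, k3]

theorem add_ne_zero' {u w : V} (h : w ≠ u) : u + w ≠ 0 := fun h0 => h (eq_of_add_eq_zero h0).symm

theorem add_ne_left {u w : V} (h : w ≠ 0) : u + w ≠ u := fun h0 => h (by
  have : u + w = u + 0 := by rw [h0, add_zero]
  exact add_left_cancel this)

theorem add_ne_right {u w : V} (h : u ≠ 0) : u + w ≠ w := fun h0 => h (by
  have : u + w = 0 + w := by rw [h0, zero_add]
  exact add_right_cancel this)

theorem NS.sq_A (N : NS z π) {y : C} (h : IsA π y) : y * y = 1 := by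
  obtain ⟨u, w, hu, hw, hne, ho, hy⟩ := h
  exact NS.sq_three N hu hw hne (add_ne_zero' hne) (add_ne_left hw) (add_ne_right hu) ho
    (by rw [om_add, om_self, ho, add_zero]) (by rw [om_add, om_self, om_symm, ho, add_zero]) hy

theorem NS.sq_B (N : NS z π) {y : C} (h : IsB π y) : y * y = 1 := by
  obtain ⟨u, w, t, ⟨h1, h2, h3, h4, h5, h6, h7⟩, ⟨o1, o2, o3⟩, hy⟩ := h
  exact NS.sq_three N h1 h2 h3 h4 h5 h6 o1 o2 o3 hy

/-- **(F1)** The involutions of the non-split double cover of `Sp₆(2)`. -/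
theorem NS.invol (N : NS z π) {y : C} (h : y * y = 1) (h1 : y ≠ 1) (hz : y ≠ z) : IsA π y ∨ IsB π y := by
  have hπ : π y * π y = 1 := by rw [← map_mul, h, map_one]
  have hπ1 : π y ≠ 1 := by
    intro h0
    rcases N.ker y h0 with h2 | h2
    · exact h1 h2
    · exact hz h2
  rcases classify hπ hπ1 with ⟨u, hu, e⟩ | ⟨u, w, hu, hw, hne, ho, e⟩ | h3 | h3
  · exact absurd ((N.sq u hu y e).symm.trans h) N.z_ne
  · exact absurd ((NS.sq_two N hu hw hne ho e).symm.trans h) N.z_ne
  · exact Or.inl h3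
  · exact Or.inr h3

/-- All elements with square `1` or `z`. -/
theorem NS.cases_sq (N : NS z π) {y : C} (h : y * y = 1 ∨ y * y = z) (h1 : y ≠ 1) (hz : y ≠ z) :
    (y * y = z ∧ ∃ u, u ≠ 0 ∧ π y = tr u) ∨
    (y * y = z ∧ ∃ u w, u ≠ 0 ∧ w ≠ 0 ∧ w ≠ u ∧ om u w = 0 ∧ π y = tr u * tr w) ∨
    (y * y = 1 ∧ IsA π y) ∨ (y * y = 1 ∧ IsB π y) := by
  have hπ : π y * π y = 1 := by
    rcases h with h | h
    · rw [← map_mul, h, map_one]
    · rw [← map_mul, h, N.map_z]
  have hπ1 : π y ≠ 1 := by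
    intro h0
    rcases N.ker y h0 with h2 | h2
    · exact h1 h2
    · exact hz h2
  rcases classify hπ hπ1 with ⟨u, hu, e⟩ | ⟨u, w, hu, hw, hne, ho, e⟩ | h3 | h3
  · exact Or.inl ⟨N.sq u hu y e, u, hu, e⟩
  · exact Or.inr (Or.inl ⟨NS.sq_two N hu hw hne ho e, u, w, hu, hw, hne, ho, e⟩)
  · exact Or.inr (Or.inr (Or.inl ⟨NS.sq_A N h3, h3⟩))
  · exact Or.inr (Or.inr (Or.inr ⟨NS.sq_B N h3, h3⟩))

/-! ### conjugacy -/

/-- Conjugation by a lift of a transvection of a vector orthogonal to and distinct from three vectors. -/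
theorem NS.conj_three (N : NS z π) {u w t s : V} (hu : u ≠ 0) (hw : w ≠ 0) (ht : t ≠ 0) (hs : s ≠ 0)
    (su : u ≠ s) (sw : w ≠ s) (st : t ≠ s) (h1 : om s u = 0) (h2 : om s w = 0) (h3 : om s t = 0) {y c : C}
    (hy : π y = tr u * tr w * tr t) (hc : π c = tr s) : c * y = z * (y * c) := by
  obtain ⟨p, hp⟩ := N.surj (tr u)
  obtain ⟨q, hq⟩ := N.surj (tr w)
  obtain ⟨r, hr⟩ := N.surj (tr t)
  have k1 : π (p * q * r) = π y := by rw [map_mul, map_mul, hp, hq, hr, hy]
  have cp := N.anti s u hs hu su h1 c p hc hp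
  have cq := N.anti s w hs hw sw h2 c q hc hq
  have cr := N.anti s t hs ht st h3 c r hc hr
  have zr : ∀ a b : C, a * (z * b) = z * (a * b) := fun a b => by rw [← mul_assoc, ← N.z_comm, mul_assoc]
  have zz : ∀ a : C, z * (z * a) = a := fun a => by rw [← mul_assoc, N.z_sq, one_mul]
  have k2 : c * (p * q * r) = z * ((p * q * r) * c) := by
    calc c * (p * q * r) = (c * p) * q * r := by group
      _ = z * (p * (c * q) * r) := by rw [cp]; group
      _ = z * (p * (z * (q * c)) * r) := by rw [cq]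
      _ = z * (p * (z * (q * (c * r)))) := by group
      _ = z * (z * (p * (q * (c * r)))) := by rw [zr p]
      _ = p * (q * (z * (r * c))) := by rw [zz, cr]
      _ = z * (p * (q * (r * c))) := by rw [zr q, zr p]
      _ = z * ((p * q * r) * c) := by group
  rcases N.toExt.eq_or k1 with h | h
  · rw [h]; exact k2
  · rw [h, zr c, k2, mul_assoc z (p * q * r) c]

/-- Orthogonal complement of a pair contains a further vector. -/
theorem exists_third {u w : V} (hu : u ≠ 0) (hw : w ≠ 0) (hne : w ≠ u) (ho : om u w = 0) :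
    ∃ t, Ind u w t ∧ Orth u w t := by
  have hi : Ind (enc 1) (enc 2) (enc 4) := by decide +kernel
  have hio : Orth (enc 1) (enc 2) (enc 4) :=
    ⟨(om_enc 1 2).trans (by decide), (om_enc 1 4).trans (by decide), (om_enc 2 4).trans (by decide)⟩
  obtain ⟨g, g1, g2⟩ := exists_pair hi.1 hi.2.1 hi.2.2.1 hio.1 hu hw hne ho
  refine ⟨act g (enc 4), ?_, ?_⟩
  · have := hi.act g
    rwa [g1, g2] at this
  · refine ⟨ho, ?_, ?_⟩
    · rw [← g1, act_om]; exact hio.2.1
    · rw [← g2, act_om]; exact hio.2.2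

theorem NS.conj_of (N : NS z π) {x y c : C} (hz : c * y = z * (y * c)) {g : S} (hg : g * π x * g⁻¹ = π y) :
    ∃ k : C, k * x * k⁻¹ = y := by
  obtain ⟨γ, hγ⟩ := N.surj g
  have h1 : π (γ * x * γ⁻¹) = π y := by rw [map_mul, map_mul, map_inv, hγ, hg]
  rcases N.toExt.eq_or h1 with h | h
  · exact ⟨γ, h.symm⟩
  · refine ⟨c * γ, ?_⟩
    have e1 : γ * x * γ⁻¹ = z * y := by
      rw [h, ← mul_assoc, N.z_sq, one_mul]
    have zr : ∀ a b : C, a * (z * b) = z * (a * b) := fun a b => by rw [← mul_assoc, ← N.z_comm, mul_assoc]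
    calc c * γ * x * (c * γ)⁻¹ = c * (γ * x * γ⁻¹) * c⁻¹ := by group
      _ = c * (z * y) * c⁻¹ := by rw [e1]
      _ = z * (c * y) * c⁻¹ := by rw [zr]
      _ = z * (z * (y * c)) * c⁻¹ := by rw [hz]
      _ = (z * z) * y := by group
      _ = y := by rw [N.z_sq, one_mul]

/-- **(F2)** All involutions of type A are conjugate. -/
theorem NS.conj_A (N : NS z π) {x y : C} (hx : IsA π x) (hy : IsA π y) : ∃ k : C, k * x * k⁻¹ = y := by
  obtain ⟨u, w, hu, hw, hne, ho, ex⟩ := hx
  obtain ⟨u', w', hu', hw', hne', ho', ey⟩ := hy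
  obtain ⟨t, ⟨-, -, -, h4, h5, h6, h7⟩, ⟨-, o2, o3⟩⟩ := exists_third hu' hw' hne' ho'
  obtain ⟨c, hc⟩ := N.surj (tr t)
  obtain ⟨g, g1, g2⟩ := exists_pair hu hw hne ho hu' hw' hne' ho'
  have o2' : om t u' = 0 := by rw [om_symm]; exact o2
  have o3' : om t w' = 0 := by rw [om_symm]; exact o3
  refine NS.conj_of N (c := c) (g := g) ?_ ?_
  · exact NS.conj_three N hu' hw' (add_ne_zero' hne') h4 h5.symm h6.symm h7.symm o2' o3'
      (by rw [om_add, o2', o3', add_zero]) ey hc
  · rw [ex, ey]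
    have : g * (tr u * tr w * tr (u + w)) * g⁻¹ = (g * tr u * g⁻¹) * (g * tr w * g⁻¹) * (g * tr (u + w) * g⁻¹) := by
      group
    rw [this, conj_tr, conj_tr, conj_tr, act_add, g1, g2]

/-- **(F2)** All involutions of type B are conjugate. -/
theorem NS.conj_B (N : NS z π) {x y : C} (hx : IsB π x) (hy : IsB π y) : ∃ k : C, k * x * k⁻¹ = y := by
  obtain ⟨u, w, t, hi, ho, ex⟩ := hx
  obtain ⟨u', w', t', hi', ho', ey⟩ := hy
  obtain ⟨c, hc⟩ := N.surj (tr (u' + w'))
  obtain ⟨g, g1, g2, g3⟩ := exists_triple hi ho hi' ho'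
  refine NS.conj_of N (c := c) (g := g) ?_ ?_
  · obtain ⟨h1, h2, h3, h4, h5, h6, h7⟩ := hi'
    obtain ⟨o1, o2, o3⟩ := ho'
    refine NS.conj_three N h1 h2 h4 (add_ne_zero' h3) (add_ne_left h2).symm (add_ne_right h1).symm h7
      ?_ ?_ ?_ ey hc
    · rw [om_add', om_self, om_symm, o1, add_zero]
    · rw [om_add', om_self, o1, add_zero]
    · rw [om_add', o2, o3, add_zero]
  · rw [ex, ey]
    have : g * (tr u * tr w * tr t) * g⁻¹ = (g * tr u * g⁻¹) * (g * tr w * g⁻¹) * (g * tr t * g⁻¹) := by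
      group
    rw [this, conj_tr, conj_tr, conj_tr, g1, g2, g3]

/-- `IsA` and `IsB` are invariant under multiplication with `z` and conjugation. -/
theorem NS.isA_mul (N : NS z π) {y : C} (h : IsA π y) : IsA π (z * y) := by
  obtain ⟨u, w, hu, hw, hne, ho, e⟩ := h
  exact ⟨u, w, hu, hw, hne, ho, by rw [map_mul, N.map_z, one_mul, e]⟩

theorem NS.isB_mul (N : NS z π) {y : C} (h : IsB π y) : IsB π (z * y) := by
  obtain ⟨u, w, t, hi, ho, e⟩ := h
  exact ⟨u, w, t, hi, ho, by rw [map_mul, N.map_z, one_mul, e]⟩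

theorem isA_conj {y : C} (h : IsA π y) (k : C) : IsA π (k * y * k⁻¹) := by
  obtain ⟨u, w, hu, hw, hne, ho, e⟩ := h
  refine ⟨act (π k) u, act (π k) w, act_ne hu, act_ne hw, fun h => hne (act_inj h), by rw [act_om, ho], ?_⟩
  rw [map_mul, map_mul, map_inv, e, ← act_add, ← conj_tr, ← conj_tr, ← conj_tr]
  group

theorem isB_conj {y : C} (h : IsB π y) (k : C) : IsB π (k * y * k⁻¹) := by
  obtain ⟨u, w, t, hi, ho, e⟩ := h
  refine ⟨act (π k) u, act (π k) w, act (π k) t, hi.act _, ⟨by rw [act_om, ho.1], by rw [act_om, ho.2.1],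
    by rw [act_om, ho.2.2]⟩, ?_⟩
  rw [map_mul, map_mul, map_inv, e, ← conj_tr, ← conj_tr, ← conj_tr]
  group

/-! ### type B is not a square -/

/-- `tr e₁ * tr e₂ * tr e₃` as a block matrix. -/
theorem b3_matrix : ((tr (enc 1) * tr (enc 2) * tr (enc 4) : S) : Matrix (Fin 3 ⊕ Fin 3) (Fin 3 ⊕ Fin 3) (ZMod 2)) =
    Matrix.fromBlocks 1 1 0 1 := by
  decide +kernel

/-- `tr u * tr w * tr t` is not a square in `Sp₆(2)`. -/
theorem b3_not_sq {u w t : V} (hi : Ind u w t) (ho : Orth u w t) (h : S) : h * h ≠ tr u * tr w * tr t := by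
  have main : ∀ h : S, h * h ≠ tr (enc 1) * tr (enc 2) * tr (enc 4) := by
    intro h hh
    set H : Matrix (Fin 3 ⊕ Fin 3) (Fin 3 ⊕ Fin 3) (ZMod 2) := h.1 with hH
    have h1 : H * H = Matrix.fromBlocks 1 1 0 1 := by
      rw [← b3_matrix, ← hh]; rfl
    have hb : H = Matrix.fromBlocks H.toBlocks₁₁ H.toBlocks₁₂ H.toBlocks₂₁ H.toBlocks₂₂ :=
      (Matrix.fromBlocks_toBlocks H).symm
    generalize H.toBlocks₁₁ = P at hb
    generalize H.toBlocks₁₂ = Q at hb
    generalize H.toBlocks₂₁ = R at hb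
    generalize H.toBlocks₂₂ = T at hb
    have h2 : H * Matrix.fromBlocks 1 1 0 1 = Matrix.fromBlocks 1 1 0 1 * H := by
      rw [← h1, mul_assoc]
    rw [hb, Matrix.fromBlocks_multiply, Matrix.fromBlocks_multiply, Matrix.fromBlocks_inj] at h2
    simp only [mul_one, mul_zero, add_zero, one_mul, zero_mul, zero_add] at h2
    obtain ⟨a1, a2, -, -⟩ := h2
    have hR : R = 0 := by
      have : P + 0 = P + R := by rw [add_zero]; exact a1
      exact (add_left_cancel this).symm
    have hT : P = T := by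
      have : P + Q = T + Q := by rw [a2, add_comm]
      exact add_right_cancel this
    subst hR hT
    rw [hb, Matrix.fromBlocks_multiply, Matrix.fromBlocks_inj] at h1
    obtain ⟨-, b2, -, -⟩ := h1
    have b3 := congrArg Matrix.trace b2
    rw [Matrix.trace_add, Matrix.trace_mul_comm, CharTwo.add_self_eq_zero, Matrix.trace_one] at b3
    revert b3
    decide
  obtain ⟨g, g1, g2, g3⟩ := exists_triple hi ho
    (show Ind (enc 1) (enc 2) (enc 4) by decide +kernel)
    ⟨(om_enc 1 2).trans (by decide), (om_enc 1 4).trans (by decide), (om_enc 2 4).trans (by decide)⟩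
  intro hh
  apply main (g * h * g⁻¹)
  rw [← g1, ← g2, ← g3, ← conj_tr, ← conj_tr, ← conj_tr]
  calc g * h * g⁻¹ * (g * h * g⁻¹) = g * (h * h) * g⁻¹ := by group
    _ = g * (tr u * tr w * tr t) * g⁻¹ := by rw [hh]
    _ = _ := by group

/-- **(F3)** Involutions of type B are not squares (not even modulo `z`). -/
theorem isB_not_sq {y : C} (h : IsB π y) (x : C) : x * x ≠ y := by
  rintro rfl
  obtain ⟨u, w, t, hi, ho, e⟩ := h
  rw [map_mul] at e
  exact b3_not_sq hi ho _ e

/-- A square root of `tr e₂ * tr e₃ * tr (e₂ + e₃)`. -/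
theorem a2_sq : (tr (enc 1) * tr (enc 3) * tr (enc 8) * tr (enc 12)) * (tr (enc 1) * tr (enc 3) * tr (enc 8) *
    tr (enc 12)) = tr (enc 2) * tr (enc 4) * tr (enc 2 + enc 4) := by
  apply Subtype.ext
  decide +kernel

/-- Involutions of type A are squares. -/
theorem NS.isA_sq (N : NS z π) {y : C} (h : IsA π y) : ∃ x, x * x = y := by
  obtain ⟨x, hx⟩ := N.surj (tr (enc 1) * tr (enc 3) * tr (enc 8) * tr (enc 12))
  have hA : IsA π (x * x) := by
    refine ⟨enc 2, enc 4, by decide +kernel, by decide +kernel, by decide +kernel, (om_enc 2 4).trans (by decide), ?_⟩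
    rw [map_mul, hx, a2_sq]
  obtain ⟨k, hk⟩ := NS.conj_A N hA h
  refine ⟨k * x * k⁻¹, ?_⟩
  rw [← hk]; group

/-- The types are different. -/
theorem NS.not_isA_isB (N : NS z π) {y : C} (h : IsA π y) : ¬ IsB π y := by
  intro hB
  obtain ⟨x, hx⟩ := NS.isA_sq N h
  exact isB_not_sq hB x hx

end

end Cfsg.Agent.SporRec.TwoSp6.CInvol
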