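import Cfsg.Agent.SporRec.TwoSp6.Order

/-!
# Homomorphisms from `2·Sp₆(2)` given by seven elements satisfying the relations
-/

set_option autoImplicit false

namespace Cfsg.Agent.SporRec.TwoSp6.Hom

open Cfsg.Agent.SporRec.TwoSp6.Cox Cfsg.Agent.SporRec.TwoSp6.Sp Cfsg.Agent.SporRec.TwoSp6.Lift
  Cfsg.Agent.SporRec.TwoSp6.Model Cfsg.Agent.SporRec.TwoSp6.Order

/-- The relations of `Rels` without generation, `z ≠ 1` and full centrality. -/
structure Pre {D : Type*} [Group D] (z : D) (a : Fin 7 → D) : Prop where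
  z_sq : z * z = 1
  sq : ∀ i, a i * a i = z
  comm : ∀ i j, m7 i j = 2 → a i * a j = z * (a j * a i)
  braid : ∀ i j, m7 i j = 3 → a i * a j * a i = a j * a i * a j
  cox : prod7 a ^ 9 = 1

theorem Pre.z_comm {D : Type*} [Group D] {z : D} {a : Fin 7 → D} (P : Pre z a) (i : Fin 7) : z * a i = a i * z := by
  rw [← P.sq i, mul_assoc]

/-- **A homomorphism from seven elements satisfying the relations.** -/
theorem exists_hom' {C : Type*} [Group C] {z : C} {a : Fin 7 → C} (R : Rels z a) (hC : Nat.card C = 2903040)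
    {D : Type*} [Group D] {z' : D} {a' : Fin 7 → D} (P : Pre z' a') :
    ∃ φ : C →* D, (∀ i, φ (a i) = a' i) ∧ φ z = z' := by
  have fC : Finite C := Nat.finite_of_card_ne_zero (by rw [hC]; norm_num)
  set F : Subgroup (C × D) := Subgroup.closure (Set.range fun i => (a i, a' i)) with hF
  have hmem : ∀ i, (a i, a' i) ∈ F := fun i => Subgroup.subset_closure ⟨i, rfl⟩
  set b : Fin 7 → F := fun i => ⟨(a i, a' i), hmem i⟩ with hb
  have hzz : ∀ i, (b i * b i : F) = b 0 * b 0 := by
    intro i
    apply Subtype.ext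
    apply Prod.ext
    · show a i * a i = a 0 * a 0
      rw [R.sq, R.sq]
    · show a' i * a' i = a' 0 * a' 0
      rw [P.sq, P.sq]
  have hzv : ((b 0 * b 0 : F) : C × D) = (z, z') := by
    apply Prod.ext
    · exact R.sq 0
    · exact P.sq 0
  have hcomm : ∀ y ∈ F, z' * y.2 = y.2 * z' := by
    intro y hy
    rw [hF] at hy
    induction hy using Subgroup.closure_induction with
    | one => rw [Prod.snd_one, mul_one, one_mul]
    | mem y hy =>
      obtain ⟨i, rfl⟩ := hy
      exact P.z_comm i
    | mul x y hx hy ihx ihy =>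
      rw [Prod.snd_mul, ← mul_assoc, ihx, mul_assoc, ihy, mul_assoc]
    | inv x hx ihx =>
      rw [Prod.snd_inv]
      calc z' * (x.2)⁻¹ = (x.2)⁻¹ * (x.2 * z') * (x.2)⁻¹ := by group
        _ = (x.2)⁻¹ * z' := by rw [← ihx]; group
  have RF : Rels (b 0 * b 0) b := by
    refine ⟨?_, ?_, ?_, ?_, ?_, ?_, ?_, ?_⟩
    · intro h
      have h1 := congrArg Subtype.val h
      rw [hzv] at h1
      exact R.z_ne (congrArg Prod.fst h1)
    · apply Subtype.ext
      rw [Subgroup.coe_mul, hzv]
      exact Prod.ext R.z_sq P.z_sq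
    · intro g
      apply Subtype.ext
      rw [Subgroup.coe_mul F (b 0 * b 0), Subgroup.coe_mul F g, hzv]
      exact Prod.ext (R.z_comm _) (hcomm _ g.2)
    · exact hzz
    · intro i j hij
      apply Subtype.ext
      rw [Subgroup.coe_mul F (b 0 * b 0), hzv]
      exact Prod.ext (R.comm i j hij) (P.comm i j hij)
    · intro i j hij
      apply Subtype.ext
      exact Prod.ext (R.braid i j hij) (P.braid i j hij)
    · apply Subtype.ext
      have e : ((prod7 b ^ 9 : F) : C × D) = (prod7 a ^ 9, prod7 a' ^ 9) := rfl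
      rw [e, R.cox, P.cox]; rfl
    · rw [eq_top_iff]
      rintro ⟨x, hx⟩ -
      rw [hF] at hx
      have key : ∀ y (hy : y ∈ Subgroup.closure (Set.range fun i => (a i, a' i))),
          (⟨y, hF ▸ hy⟩ : F) ∈ Subgroup.closure (Set.range b) := by
        intro y hy
        induction hy using Subgroup.closure_induction with
        | one => exact one_mem _
        | mem y hy =>
          obtain ⟨i, rfl⟩ := hy
          exact Subgroup.subset_closure ⟨i, rfl⟩
        | mul x y hx hy ihx ihy => exact mul_mem ihx ihy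
        | inv x hx ihx => exact inv_mem ihx
      exact key x hx
  obtain ⟨fF, cF⟩ := RF.card_le
  set p1 : F →* C := (MonoidHom.fst C D).comp F.subtype with hp1
  set p2 : F →* D := (MonoidHom.snd C D).comp F.subtype with hp2
  have s1 : Function.Surjective p1 := by
    rw [← MonoidHom.range_eq_top, eq_top_iff, ← R.gen, Subgroup.closure_le]
    rintro _ ⟨i, rfl⟩
    exact ⟨b i, rfl⟩
  have c1 : Nat.card F = Nat.card C :=
    le_antisymm (by rw [hC]; exact cF) (Nat.card_le_card_of_surjective p1 s1)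
  have b1 : Function.Bijective p1 := (Nat.bijective_iff_surjective_and_card p1).2 ⟨s1, c1⟩
  let e1 : F ≃* C := MulEquiv.ofBijective p1 b1
  have ha : ∀ i, e1.symm (a i) = b i := by
    intro i
    rw [MulEquiv.symm_apply_eq]; rfl
  refine ⟨p2.comp e1.symm.toMonoidHom, fun i => ?_, ?_⟩
  · show p2 (e1.symm (a i)) = a' i
    rw [ha]; rfl
  · have hzb : e1.symm z = b 0 * b 0 := by
      rw [MulEquiv.symm_apply_eq]
      exact (R.sq 0).symm
    show p2 (e1.symm z) = z'
    rw [hzb]
    exact P.sq 0

theorem exists_hom {D : Type*} [Group D] {z' : D} {a' : Fin 7 → D} (P : Pre z' a') :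
    ∃ φ : M →* D, (∀ i, φ (gen i) = a' i) ∧ φ z = z' :=
  exists_hom' rels card_M P

end Cfsg.Agent.SporRec.TwoSp6.Hom
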