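import Cfsg.Agent.SporRec.TwoSp6.Model

/-!
The order of the model `M` of `2·Sp₆(2)` is `2903040 = 240 · 126 · 48 · 2` (base of four vectors), and the transfer of the
model to any group with the relations.
-/

set_option autoImplicit false

namespace Cfsg.Agent.SporRec.TwoSp6.Order

open Cfsg.Agent.SporRec.TwoSp6.Mat Cfsg.Agent.Lib.PackMat Cfsg.Agent.SporRec.TwoSp6.Lift
  Cfsg.Agent.SporRec.TwoSp6.Model

/-- value of a word over a list of codes -/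
noncomputable def ev (gs : List ℕ) : List ℕ → ℕ → ℕ
  | [], acc => acc
  | k :: w, acc => force (mulN acc (gs.getD k oneN)) fun acc => ev gs w acc

theorem ev_cons (gs : List ℕ) (k : ℕ) (w : List ℕ) (acc : ℕ) :
    ev gs (k :: w) acc = ev gs w (mulN acc (gs.getD k oneN)) :=
  force_eq (mulN acc (gs.getD k oneN)) fun acc => ev gs w acc

/-- `c` is the code of an element of `K` -/
def Rep (K : Subgroup Mxˣ) (c : ℕ) : Prop := ∃ g ∈ K, code g = c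

theorem Rep.one (K : Subgroup Mxˣ) : Rep K oneN := ⟨1, one_mem _, code_one⟩

theorem Rep.mul {K : Subgroup Mxˣ} {c d : ℕ} (hc : Rep K c) (hd : Rep K d) : Rep K (mulN c d) := by
  obtain ⟨g, hg, rfl⟩ := hc
  obtain ⟨h, hh, rfl⟩ := hd
  exact ⟨g * h, mul_mem hg hh, code_mul g h⟩

theorem Rep.ev {K : Subgroup Mxˣ} {gs : List ℕ} (hgs : ∀ c ∈ gs, Rep K c) (w : List ℕ) {acc : ℕ}
    (hacc : Rep K acc) : Rep K (ev gs w acc) := by
  induction w generalizing acc with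
  | nil => exact hacc
  | cons k w ih =>
    rw [ev_cons]
    refine ih (hacc.mul ?_)
    rw [List.getD_eq_getElem?_getD]
    by_cases hk : k < gs.length
    · rw [List.getElem?_eq_getElem hk, Option.getD_some]
      exact hgs _ (List.getElem_mem hk)
    · rw [List.getElem?_eq_none (by omega), Option.getD_none]
      exact Rep.one K

/-- the images `V * c` of the words are strictly increasing (all larger than `p`) -/
noncomputable def incr (V : ℕ) (gs : List ℕ) : List (List ℕ) → ℕ → Bool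
  | [], _ => true
  | w :: ws, p => force (mulN V (ev gs w oneN)) fun q => bif Nat.blt p q then incr V gs ws q else false

theorem incr_cons (V : ℕ) (gs : List ℕ) (w : List ℕ) (ws : List (List ℕ)) (p : ℕ) :
    incr V gs (w :: ws) p = bif Nat.blt p (mulN V (ev gs w oneN)) then
      incr V gs ws (mulN V (ev gs w oneN)) else false :=
  force_eq (mulN V (ev gs w oneN)) fun q => bif Nat.blt p q then incr V gs ws q else false

theorem incr_spec {V : ℕ} {gs : List ℕ} {ws : List (List ℕ)} {p : ℕ} (h : incr V gs ws p = true) :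
    (∀ w ∈ ws, p < mulN V (ev gs w oneN)) ∧ (ws.map fun w => mulN V (ev gs w oneN)).Pairwise (· < ·) := by
  induction ws generalizing p with
  | nil => exact ⟨by simp, by simp⟩
  | cons w ws ih =>
    rw [incr_cons] at h
    cases hb : Nat.blt p (mulN V (ev gs w oneN)) with
    | false => rw [hb] at h; simp at h
    | true =>
      rw [hb, cond_true] at h
      obtain ⟨h1, h2⟩ := ih h
      have hlt : p < mulN V (ev gs w oneN) := Nat.le_of_ble_eq_true hb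
      refine ⟨?_, ?_⟩
      · intro w' hw'
        rcases List.mem_cons.1 hw' with rfl | hw'
        · exact hlt
        · exact lt_trans hlt (h1 w' hw')
      · rw [List.map_cons, List.pairwise_cons]
        refine ⟨?_, h2⟩
        intro q hq
        obtain ⟨w', hw', rfl⟩ := List.mem_map.1 hq
        exact h1 w' hw'

/-- Step of the stabiliser chain. -/
theorem step {K K' : Subgroup Mxˣ} (hle : K' ≤ K) (v : Mx) (hfix : ∀ g ∈ K', v * (g : Mx) = v)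
    {gs : List ℕ} (hgs : ∀ c ∈ gs, Rep K c) {ws : List (List ℕ)} {p : ℕ}
    (h : incr (encM v) gs ws p = true) : ws.length * Nat.card K' ≤ Nat.card K := by
  obtain ⟨-, h2⟩ := incr_spec h
  have hr : ∀ i : Fin ws.length, ∃ g ∈ K, code g = ev gs ws[i] oneN := fun i => Rep.ev hgs _ (Rep.one K)
  choose s hs hc using hr
  have hinj : Function.Injective fun x : Fin ws.length × K' => (⟨(x.2 : Mxˣ) * s x.1, mul_mem (hle x.2.2) (hs _)⟩ : K) := by
    rintro ⟨i, k⟩ ⟨j, l⟩ hij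
    have e : (k : Mxˣ) * s i = l * s j := congrArg Subtype.val hij
    have e2 : encM v * 0 = 0 := by simp
    have key : ∀ (k : K') (i : Fin ws.length), encM (v * (((k : Mxˣ) * s i : Mxˣ) : Mx)) =
        mulN (encM v) (ev gs ws[i] oneN) := by
      intro k i
      rw [Units.val_mul, ← mul_assoc, hfix k k.2, encM_mul, ← hc i]
      rfl
    have e3 : mulN (encM v) (ev gs ws[i] oneN) = mulN (encM v) (ev gs ws[j] oneN) := by
      rw [← key k i, ← key l j, e]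
    have hij : i = j := by
      rw [List.pairwise_iff_getElem] at h2
      rcases lt_trichotomy i j with hlt | heq | hlt
      · have := h2 i j (by simp) (by simp) hlt
        simp only [List.getElem_map] at this
        exact absurd e3 (ne_of_lt this)
      · exact heq
      · have := h2 j i (by simp) (by simp) hlt
        simp only [List.getElem_map] at this
        exact absurd e3.symm (ne_of_lt this)
    subst hij
    have : k = l := Subtype.ext (mul_right_cancel e)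
    rw [this]
  have hfin : Finite Mxˣ := inferInstance
  calc ws.length * Nat.card K' = Nat.card (Fin ws.length × K') := by rw [Nat.card_prod, Nat.card_fin]
    _ ≤ Nat.card K := Nat.card_le_card_of_injective _ hinj

/-- the elements fixing `v` (acting on the right of the matrix `v`) -/
def fixer (v : Mx) : Subgroup Mxˣ where
  carrier := {g | v * (g : Mx) = v}
  mul_mem' {g h} hg hh := by
    show v * ((g * h : Mxˣ) : Mx) = v
    rw [Units.val_mul, ← mul_assoc, show v * (g : Mx) = v from hg, show v * (h : Mx) = v from hh]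
  one_mem' := mul_one v
  inv_mem' {g} hg := by
    show v * ((g⁻¹ : Mxˣ) : Mx) = v
    have h : v * (g : Mx) = v := hg
    calc v * ((g⁻¹ : Mxˣ) : Mx) = v * (g : Mx) * ((g⁻¹ : Mxˣ) : Mx) := by rw [h]
      _ = v := by rw [mul_assoc, ← Units.val_mul, mul_inv_cancel, Units.val_one, mul_one]

theorem mem_fixer {v : Mx} {g : Mxˣ} : g ∈ fixer v ↔ v * (g : Mx) = v := Iff.rfl

def V0 : ℕ := 0x1001000000000000000000
def V1 : ℕ := 0x1002001002001001001002001001000000000000000000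
def V2 : ℕ := 0x1000000001000001002001002001001001002001001000000000000000000
def V3 : ℕ := 0x1000002000000000001000000001000001002001002001001001002001001000000000000000000

/-- generators of the stabiliser of level 1 -/
def S1 : List (List ℕ) := [[1,2,6], [1,5,4,3,2,0]]

/-- generators of the stabiliser of level 2 -/
def S2 : List (List ℕ) := [[1,5,4,3,2,0,1,2,6,0,2,3,4,5,1], [1,5,4,3,2,0,1,5,4,3,2,0,1,2,6,1,5,4,3,2,0,1,5,4,3,2,0,1,5,4,3,2,0]]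

/-- generators of the stabiliser of level 3 -/
def S3 : List (List ℕ) := [[1,5,4,3,2,0,1,2,6,0,2,3,4,5,1,1,5,4,3,2,0,1,5,4,3,2,0,1,2,6,1,5,4,3,2,0,1,5,4,3,2,0,1,5,4,3,2,0,1,5,4,3,2,0,1,5,4,3,2,0,1,2,6,1,5,4,3,2,0,1,5,4,3,2,0,1,5,4,3,2,0,1,5,4,3,2,0,1,5,4,3,2,0,1,2,6,1,5,4,3,2,0,1,5,4,3,2,0,1,5,4,3,2,0,1,5,4,3,2,0,6,2,1,0,2,3,4,5,1,0,2,3,4,5,1,0,2,3,4,5,1,0,2,3,4,5,1,6,2,1,0,2,3,4,5,1,0,2,3,4,5,1,0,2,3,4,5,1,0,2,3,4,5,1,0,2,3,4,5,1,6,2,1,0,2,3,4,5,1,0,2,3,4,5,1,7]]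

/-- transversal words, level 0 -/
def T0 : List (List ℕ) := [
  [1,3,1], [1,3,2], [1,3,6,4], [4,3,2], [0,0,4], [2], [1,4,3], [2,4,3],
  [6,1], [4], [3,2,1], [3,2,4], [0,5,1], [0,5,4,6], [3,0,4], [0,3],
  [2,5,3,6], [2,5,3,4], [5,4,3], [0,1,5], [3,0], [0,3,4], [2,3,5,4], [2,3,5,6],
  [3,6], [0,0,3], [1], [6,4], [2,3,1], [1,3,4], [1,3,5,1], [4,3,5],
  [3], [6,3], [4,6], [2,6], [2,3,2], [3,4,3], [4,5,3], [1,3,1,5],
  [2,0,4,3], [2,3,2,5], [1,5,3,6], [0,4,2,3,1], [0,1,2,3], [5,0], [1,4], [1,2],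
  [0,3,2,4], [3,0,2], [3,2,0], [2,4,0,3], [0,2,4,3,1], [1,3,5,6], [0,5], [0,2,1,3],
  [6], [4,1], [0,3,2], [0,3,4,2], [0,4,2,3,2], [0,2,4,3], [2,5,3], [2,3,5,1],
  [0,6,3], [0,3,1], [3,2], [3,6,2], [0,5,4], [0,1,5,6], [4,3], [1,3],
  [0,4,2,3], [0,2,4,3,2], [2,3,1,5], [2,3,5], [3,0,1], [0,3,6], [3,2,6], [0,0,3,2],
  [0,5,1,6], [5,0,4], [2,6,3], [0,0,4,3], [0,3,6,2], [0,3,1,2], [5,0,6], [0,2,5],
  [1,3,5], [1,3,2,5], [4,3,6], [2,3], [0,4,1,3], [3,2,6,0], [3,1], [3,4],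
  [], [0,4,5], [0,6,1], [0,2,6,3], [3,6,5], [3,5,2], [2,5,0,6], [3,5,1,6],
  [0,1,3,5], [1,2,5], [0,3,2,4,5], [0,1,3], [5,3,6], [0,0,5,4], [0,2,4], [0,3,4,5],
  [2,4,0], [6,3,5,4], [0,4,3,1], [0,1,3,5,6], [0,0,4,5], [0,6,4], [0,3,5,1], [2,5,4],
  [0,0,5,6], [3,1,5], [5,6,4], [0,4,1], [2,0,5], [0,4,5,3], [5,3,4,5], [0,0,0,2],
  [0,4,3,6], [4,2], [0,4,3,1,5], [3,5,4], [5,2], [2,3,0,1], [0,3,6,5], [0,0,5],
  [4,0], [0,2,6], [0], [3,6,1,5], [0,2,0], [1,5,6], [3,5,1,4], [0,4,3],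
  [1,4,5,3], [0,5,6,5], [0,2,3], [1,2,5,6], [3,5], [0,1], [0,1,2], [3,2,6,5],
  [0,1,3,1], [0,4,3,5,2], [2,3,0], [1,4,5], [3,5,6,5], [0,1,3,1,5], [5,2,6], [0,6],
  [5,1], [0,3,5], [0,3,2,1], [0,3,2,6], [0,5,2], [0,5,6], [1,3,5,2], [1,5,3],
  [1,3,6], [4,6,3], [3,2,0,6], [0,1,4,3], [3,6,1], [3,4,6], [2,4], [0,5,3],
  [1,5], [6,0], [2,5,6], [0,1,3,5,1], [5,3,6,5], [4,1,5], [2,0,3], [3,4,5,6],
  [1,0,3,1], [3,6,2,5], [0,2,1], [1,0], [5,3], [5,6,5], [1,5,4], [2,5,4,6],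
  [1,4,3,5], [4,0,3], [3,1,5,4], [5,1,6], [0,1,2,6], [3,4,5], [0,0,0], [0,6,2],
  [0,4], [5], [0,6,3,5], [0,3,4,3], [2,5], [5,3,4], [0,4,3,5,1], [0,0],
  [0,4,6,3], [0,2], [3,4,5,4], [0,4,3,5], [2,5,0], [0,1,4], [5,4,6], [3,5,1],
  [5,6], [0,6,5], [0,3,1,5], [0,4,6], [4,5], [0,1,5,3,6], [1,3,2,0], [3,6,5,4],
  [2,0,4], [3,0,4,5], [0,4,2], [5,4], [3,5,6], [1,0,3], [0,3,4,2,5], [6,5],
  [0,1,5,3], [0,4,3,2], [2,0,5,6], [3,2,5], [6,3,5], [0,2,3,6], [2,0], [4,0,5]]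

/-- transversal words, level 1 -/
def T1 : List (List ℕ) := [
  [0,1,0], [1,1,0,1,0], [1,1,0,1,1,0,1,0,1], [0,1,1,1,1,1,1,1,0,1,1], [0,1,0,1,0], [1], [0,1,0,1,0,1,1,1], [0,1,1,1,1,1],
  [0,1,0,1,1,0,1,1,0,1,1], [0,1,0,1], [1,1,0,1,0,1,1,1,1,0], [1,1,0], [0,1,1,1], [1,1,0,1,1,0,1,0], [0,1,0,1,1,1], [1,1,0,1,1,0,1,1,0],
  [1,1,1,0,1,1,1], [1,1,1,0,1], [0,1,1,1,1,1,0,1], [0,1,1,0,1,1,1,1,1,1,0,1], [0,1,1,0,1,1], [0,1,0,1,0,1,1], [0,1,1,1,1,1,1,1,1], [1,1,1,0,1,1,0,1],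
  [1,1,0,1,0,1,1,1,1], [0,1,0,1,0,1,1,1,0], [1,1,0,1,0,1,1], [1,1,1,0,1,1], [1,1,0,1], [0,1], [1,1,1,0,1,0,1,1,1,0], [0,1,0,1,1,0,1,1,0],
  [1,1], [0,1,1,1,1,1,0], [1,1,1,0,1,1,0], [1,1,0,1,1,0,1,0,1,1,1], [1,1,1,0,1,1,1,1,1,1], [0,1,0,1,0,1,1,1,1], [1,1,0,1,1], [0,1,1,0,1],
  [1,1,1,0,1,1,0,1,0], [0,1,0,1,0,1,1,0,1,1], [0,1,0,1,1,0,1,1], [0,1,1,0,1,0], [0,1,1,0,1,1,1,1,1,1,0,1,0], [0,1,0,1,1,0,1,1,1], [0,1,1,0,1,1,0,1], [0,1,0,1,1,0,1],
  [0,1,1,0,1,1,0], [0,1,0,1,0,1,1,0], [1,1,1,0,1,0], [1,1,1,0,1,0,1], [1,1,1,0,1,0,1,1,1], [1,1,0,1,1,0], [1,1,0,1,1,0,1], [0,1,1,1,0],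
  [0,1,0,1,0,1,0,1], [0,1,1,0,1,1,0,1,0], [0,1,0,1,1,1,0], [1,1,0,1,1,0,1,1], [0,1,1,0,1,0,1,0,1], [0,1,1,1,1,1,1,1], [0,1,1,0,1,1,1,1,1,1,0], [1,1,0,1,0,1,1,1,0],
  [0,1,1,0], [1,1,1,0,1,1,1,1], [0,1,0,1,0,1], [0,1,0,1,1,1,0,1,0], [0,1,1,1,1,1,1], [], [1,1,1], [1,1,1,0,1,1,1,1,1],
  [0,1,1,0,1,1,1,1,1,0], [0,1,1,1,1], [0,1,1,1,1,1,1,1,0,1], [1,1,0,1,1,0,1,1,0,1], [1,1,0,1,1,0,1,0,1,1], [1,1,0,1,0,1,0], [0,1,0,1,1,0], [1,1,1,1,0],
  [1,1,1,1,0,1], [0,1,1,0,1,0,1,1], [1,1,0,1,1,0,1,1,0,1,0,1,0], [0,1,1,0,1,1,0,1,1,1,1], [0,1,1,1,0,1,0], [0,1,1,0,1,1,1,1,1,1,0,1,1,0], [0,1,0,1,0,1,1,0,1], [0,1,1,0,1,1,1,0],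
  [1,1,0,1,0,1,0,1], [0,1,1,0,1,1,0,1,1], [1,1,1,0,1,1,0,1,0,1], [0,1,1,0,1,1,0,1,1,1], [0,1,1,0,1,0,1], [0,1,1,0,1,0,1,0,1,0], [1,1,1,0,1,0,1,1,1,1], [0,1,1,0,1,1,0,1,1,0],
  [1,1,1,0,1,0,1,1], [0,1,1,0,1,1,0,1,0,1], [1,1,1,0,1,1,1,1,0], [1,1,0,1,1,0,1,1,0,1,0], [0,1,0,1,1,1,0,1], [0,1,1,1,1,0], [1,1,0,1,1,0,1,1,0,1,0,1], [0,1,1,0,1,0,1,0],
  [0,1,1,1,0,1], [1,1,1,0,1,0,1,1,1,1,1], [0,1,1,1,1,1,1,0], [0,1,1,0,1,0,1,0,1,1], [0,1,0,1,0,1,0], [1,1,0,1,1,0,1,0,1,1,0], [1,1,0,1,0,1], [0,1,1,0,1,1,1],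
  [1,1,1,1], [0,1,1,0,1,1,1,1,1,1,0,1,1], [1,1,0,1,0,1,1,1], [0], [0,1,1,1,1,1,1,1,0], [0,1,0,1,1,0,1,1,0,1], [1,1,1,1,0,1,0], [0,1,1,0,1,1,1,1],
  [0,1,0,1,1], [1,1,0,1,0,1,0,1,0], [0,1,1,0,1,1,1,1,1,1], [0,1,1,0,1,1,1,1,1], [0,1,1], [1,1,1,0]]

/-- transversal words, level 2 -/
def T2 : List (List ℕ) := [
  [0,1,1], [0,1], [1,1,0,1,1,1], [1,1,0,1,1], [0,1,1,0,1,1,1,1], [0,1,0,1,1,1,1], [1], [0,1,0,1,1],
  [1,1,1,1,0,1,0], [1,0], [1,0,1,1,1,1,1], [], [0,1,1,0,1,1,1], [1,1,1,1,1,1], [1,1,0,1,0], [0,1,0,1],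
  [1,1,0], [1,0,1,1,1,0], [0,1,0,1,0], [0,1,1,0,1,0], [1,0,1,0], [1,1,1,1,0], [0,1,1,0,1,1,1,0], [0,1,1,0,1],
  [1,1,1], [0], [1,0,1,1,1,1,1,0], [0,1,0,1,1,1], [1,0,1,1,1,1], [0,1,1,0,1,1], [1,0,1,1,0,1], [1,1,1,1,0,1],
  [0,1,0,1,1,0], [1,1,1,0], [1,1,1,1], [1,0,1], [1,1], [1,0,1,1,1], [1,0,1,1,0], [1,1,1,1,0,1,1],
  [1,0,1,1,1,0,1], [0,1,1,0], [0,1,0], [1,1,1,1,1], [0,1,1,0,1,1,1,1,1], [0,1,0,1,1,0,1], [1,1,0,1], [1,0,1,1]]

/-- transversal words, level 3 -/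
def T3 : List (List ℕ) := [
  [], [0]]


/-- the subgroup generated by the values of words -/
noncomputable def KS (ws : List (List ℕ)) : Subgroup Mxˣ :=
  Subgroup.closure {g | ∃ w ∈ ws, g = ((wv gen z w : M) : Mxˣ)}

theorem KS_le {ws : List (List ℕ)} {K : Subgroup Mxˣ} (h : ∀ w ∈ ws, ((wv gen z w : M) : Mxˣ) ∈ K) :
    KS ws ≤ K := by
  unfold KS
  rw [Subgroup.closure_le]
  rintro _ ⟨w, hw, rfl⟩
  exact h w hw

theorem code_wv (w : List ℕ) : code ((wv gen z w : M) : Mxˣ) = wN w := cd_wv w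

theorem KS_fix {ws : List (List ℕ)} {V : ℕ} (hV : okN V = true)
    (h : ∀ w ∈ ws, mulN V (wN w) = V) : ∀ g ∈ KS ws, decM V * (g : Mx) = decM V := by
  intro g hg
  refine mem_fixer.1 (KS_le (K := fixer (decM V)) (fun w hw => ?_) hg)
  rw [mem_fixer]
  apply encM_injective
  rw [encM_mul, encM_decM hV]
  show mulN V (code ((wv gen z w : M) : Mxˣ)) = V
  rw [code_wv, h w hw]

theorem KS_rep {ws : List (List ℕ)} : ∀ c ∈ ws.map wN, Rep (KS ws) c := by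
  intro c hc
  obtain ⟨w, hw, rfl⟩ := List.mem_map.1 hc
  exact ⟨_, Subgroup.subset_closure ⟨w, hw, rfl⟩, code_wv w⟩

/-- membership of elements of the next level: a word over the generators of the previous level -/
theorem KS_le_KS {ws ws' : List (List ℕ)} (us : List (List ℕ)) (h : ws'.map wN = us.map fun u => ev (ws.map wN) u oneN) :
    KS ws' ≤ KS ws := by
  apply KS_le
  intro w hw
  have h1 : wN w ∈ us.map fun u => ev (ws.map wN) u oneN := by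
    rw [← h]; exact List.mem_map_of_mem hw
  obtain ⟨u, hu, hu2⟩ := List.mem_map.1 h1
  obtain ⟨g, hg, hc⟩ := Rep.ev (KS_rep (ws := ws)) u (Rep.one _)
  have : g = ((wv gen z w : M) : Mxˣ) := by
    apply code_injective
    rw [code_wv, hc]
    exact hu2
  rw [← this]
  exact hg


def S0 : List (List ℕ) := [[0], [1], [2], [3], [4], [5], [6]]

def U0 : List (List ℕ) := [[1,2,6], [1,5,4,3,2,2,2,0,0,0]]
def U1 : List (List ℕ) := [[1,1,0,1,0,1,0,1,0,1,0], [1,1,0,1,1,1]]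
def U2 : List (List ℕ) := [[0,1,1,1,0,1,1,1,1,1,1,1,1,1,1,1,1,1,1]]

theorem KS0 : KS S0 ≤ M := KS_le fun w _ => (wv gen z w : M).2

theorem le10 : KS S1 ≤ KS S0 := KS_le_KS U0 (by decide +kernel)
theorem le21 : KS S2 ≤ KS S1 := KS_le_KS U1 (by decide +kernel)
theorem le32 : KS S3 ≤ KS S2 := KS_le_KS U2 (by decide +kernel)

theorem ok0 : okN V0 = true := by decide +kernel
theorem ok1 : okN V1 = true := by decide +kernel
theorem ok2 : okN V2 = true := by decide +kernel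
theorem ok3 : okN V3 = true := by decide +kernel

theorem fix1 : ∀ g ∈ KS S1, decM V0 * (g : Mx) = decM V0 := KS_fix ok0 (by decide +kernel)
theorem fix2 : ∀ g ∈ KS S2, decM V1 * (g : Mx) = decM V1 := KS_fix ok1 (by decide +kernel)
theorem fix3 : ∀ g ∈ KS S3, decM V2 * (g : Mx) = decM V2 := KS_fix ok2 (by decide +kernel)

theorem inc0 : incr V0 (S0.map wN) T0 0 = true := by decide +kernel
theorem inc1 : incr V1 (S1.map wN) T1 0 = true := by decide +kernel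
theorem inc2 : incr V2 (S2.map wN) T2 0 = true := by decide +kernel
theorem inc3 : incr V3 (S3.map wN) T3 0 = true := by decide +kernel

theorem card_ge : 2903040 ≤ Nat.card M := by
  have h0 := step le10 (decM V0) fix1 KS_rep (by rw [encM_decM ok0]; exact inc0)
  have h1 := step le21 (decM V1) fix2 KS_rep (by rw [encM_decM ok1]; exact inc1)
  have h2 := step le32 (decM V2) fix3 KS_rep (by rw [encM_decM ok2]; exact inc2)
  have h3 := step (K' := ⊥) (K := KS S3) bot_le (decM V3)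
    (fun g hg => by rw [Subgroup.mem_bot.1 hg, Units.val_one, mul_one]) KS_rep (by rw [encM_decM ok3]; exact inc3)
  have l0 : T0.length = 240 := by decide +kernel
  have l1 : T1.length = 126 := by decide +kernel
  have l2 : T2.length = 48 := by decide +kernel
  have l3 : T3.length = 2 := by decide +kernel
  have hM : Nat.card (KS S0) ≤ Nat.card M := Subgroup.card_le_of_le KS0
  rw [Subgroup.card_bot, l3] at h3
  rw [l2] at h2
  rw [l1] at h1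
  rw [l0] at h0
  omega

/-- **The order of the model.** -/
theorem card_M : Nat.card M = 2903040 := le_antisymm (Rels.card_le rels).2 card_ge

theorem card_Sp_transfer {C : Type*} [Group C] {z' : C} {a : Fin 7 → C} (R : Rels z' a) (hC : Nat.card C = 2903040) :
    ∃ e : M ≃* C, (∀ i, e (gen i) = a i) ∧ e z = z' := Rels.unique rels card_M R hC

theorem map_wv {C : Type*} [Group C] {z' : C} {a : Fin 7 → C} (e : M →* C) (h : ∀ i, e (gen i) = a i)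
    (hz : e z = z') (w : List ℕ) : e (wv gen z w) = wv a z' w := by
  induction w with
  | nil => rw [wv_nil, wv_nil, map_one]
  | cons k w ih =>
    rw [wv_cons, wv_cons, map_mul, ih]
    congr 1
    unfold lt
    split_ifs <;> first | exact h _ | exact hz

/-- Every element of the model is the value of a word. -/
theorem exists_wv (g : M) : ∃ w, g = wv gen z w := by
  have hfin : Finite M := inferInstance
  have h : g ∈ Subgroup.closure (Set.range gen) := by rw [closure_gen]; exact Subgroup.mem_top g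
  rw [← Subgroup.mem_toSubmonoid, Subgroup.closure_toSubmonoid_of_finite] at h
  induction h using Submonoid.closure_induction with
  | mem x hx =>
    obtain ⟨i, rfl⟩ := hx
    refine ⟨[(i : ℕ)], ?_⟩
    rw [← cd_inj, cd_wv, cd_gen]
    revert i; decide +kernel
  | one => exact ⟨[], rfl⟩
  | mul x y _ _ hx hy =>
    obtain ⟨u, rfl⟩ := hx
    obtain ⟨v, rfl⟩ := hy
    exact ⟨u ++ v, (wv_append _ _ _ _).symm⟩

/-- Transfer of identities of words to any group with the relations. -/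
theorem wv_eq_iff {C : Type*} [Group C] {z' : C} {a : Fin 7 → C} (R : Rels z' a) (hC : Nat.card C = 2903040)
    (u v : List ℕ) : wv a z' u = wv a z' v ↔ wN u = wN v := by
  obtain ⟨e, he, hz⟩ := card_Sp_transfer R hC
  rw [← map_wv e.toMonoidHom he hz, ← map_wv e.toMonoidHom he hz, ← cd_wv, ← cd_wv, cd_inj]
  exact e.injective.eq_iff

end Cfsg.Agent.SporRec.TwoSp6.Order
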