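import Cfsg.Agent.SporRec.TwoSp6.Order

/-!
Words, inverses, conjugates, centraliser chains and listed subgroups in the model of `2·Sp₆(2)`.
-/

set_option autoImplicit false

namespace Cfsg.Agent.SporRec.TwoSp6.Conj

open Cfsg.Agent.SporRec.TwoSp6.Mat Cfsg.Agent.Lib.PackMat Cfsg.Agent.SporRec.TwoSp6.Lift
  Cfsg.Agent.SporRec.TwoSp6.Model Cfsg.Agent.SporRec.TwoSp6.Order

/-! ### Inverse words -/

/-- parity of the number of letters `0 … 6` -/
def par : List ℕ → Bool
  | [] => false
  | k :: w => xor (Nat.ble k 6) (par w)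

theorem par_cons (k : ℕ) (w : List ℕ) : par (k :: w) = xor (Nat.ble k 6) (par w) := rfl

/-- inverse word -/
def winv (w : List ℕ) : List ℕ := bif par w then 7 :: w.reverse else w.reverse

section

variable {C : Type*} [Group C] {z' : C} {a : Fin 7 → C}

theorem lt_seven (a : Fin 7 → C) (z' : C) : lt a z' 7 = z' := rfl

theorem lt_sq (R : Rels z' a) (k : ℕ) : lt a z' k * lt a z' k = bif Nat.ble k 6 then z' else 1 := by
  unfold lt
  split_ifs with h0 h1 h2 h3 h4 h5 h6
  · subst h0; exact R.sq 0
  · subst h1; exact R.sq 1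
  · subst h2; exact R.sq 2
  · subst h3; exact R.sq 3
  · subst h4; exact R.sq 4
  · subst h5; exact R.sq 5
  · subst h6; exact R.sq 6
  · have : Nat.ble k 6 = false := by
      rw [← Bool.not_eq_true]; intro h
      have := Nat.le_of_ble_eq_true h
      omega
    rw [this]; exact R.z_sq

theorem wv_reverse (R : Rels z' a) (w : List ℕ) :
    wv a z' w * wv a z' w.reverse = bif par w then z' else 1 := by
  induction w with
  | nil => simp [wv_nil, par]
  | cons k w ih =>
    rw [List.reverse_cons, wv_append, wv_cons]
    have h1 : wv a z' [k] = lt a z' k := by rw [wv_cons, wv_nil, mul_one]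
    rw [h1]
    have h2 : lt a z' k * wv a z' w * (wv a z' w.reverse * lt a z' k) =
        lt a z' k * (wv a z' w * wv a z' w.reverse) * lt a z' k := by group
    rw [h2, ih]
    have h3 := lt_sq R k
    rw [par_cons]
    cases hk : Nat.ble k 6 <;> cases hp : par w <;> rw [hk] at h3 <;> simp at h3 ⊢
    · exact h3
    · rw [mul_assoc, R.z_comm, ← mul_assoc, h3, one_mul]
    · exact h3
    · rw [mul_assoc, R.z_comm, ← mul_assoc, h3, R.z_sq]

theorem wv_winv (R : Rels z' a) (w : List ℕ) : wv a z' (winv w) = (wv a z' w)⁻¹ := by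
  apply eq_inv_of_mul_eq_one_right
  have h := wv_reverse R w
  unfold winv
  cases hp : par w
  · rw [hp, cond_false] at h
    rw [cond_false]; exact h
  · rw [hp, cond_true] at h
    rw [cond_true, wv_cons, lt_seven, R.z_comm, ← mul_assoc, h, R.z_sq]

end

/-! ### Conjugation on codes -/

/-- code of the inverse of the value of a word -/
theorem cd_inv (w : List ℕ) : cd (wv gen z w)⁻¹ = wN (winv w) := by
  rw [← wv_winv rels, cd_wv]

/-- code of `(value of w)⁻¹ * x * (value of w)` -/
noncomputable def cjN (x : ℕ) (w : List ℕ) : ℕ := wNA w (mulN (wN (winv w)) x)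

theorem cd_cj (x : M) (w : List ℕ) : cd ((wv gen z w)⁻¹ * x * wv gen z w) = cjN (cd x) w := by
  unfold cjN
  rw [← wNA_eq, cd_mul, cd_inv]

/-- the conjugates of `x` by the words are strictly increasing (all larger than `p`) -/
noncomputable def incrC (x : ℕ) : List (List ℕ) → ℕ → Bool
  | [], _ => true
  | w :: ws, p => force (cjN x w) fun q => bif Nat.blt p q then incrC x ws q else false

theorem incrC_cons (x : ℕ) (w : List ℕ) (ws : List (List ℕ)) (p : ℕ) :
    incrC x (w :: ws) p = bif Nat.blt p (cjN x w) then incrC x ws (cjN x w) else false :=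
  force_eq (cjN x w) fun q => bif Nat.blt p q then incrC x ws q else false

theorem incrC_spec {x : ℕ} {ws : List (List ℕ)} {p : ℕ} (h : incrC x ws p = true) :
    (∀ w ∈ ws, p < cjN x w) ∧ (ws.map (cjN x)).Pairwise (· < ·) := by
  induction ws generalizing p with
  | nil => exact ⟨by simp, by simp⟩
  | cons w ws ih =>
    rw [incrC_cons] at h
    cases hb : Nat.blt p (cjN x w) with
    | false => rw [hb] at h; simp at h
    | true =>
      rw [hb, cond_true] at h
      obtain ⟨h1, h2⟩ := ih h
      have hlt : p < cjN x w := Nat.le_of_ble_eq_true hb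
      refine ⟨?_, ?_⟩
      · intro w' hw'
        rcases List.mem_cons.1 hw' with rfl | hw'
        · exact hlt
        · exact lt_trans hlt (h1 w' hw')
      · rw [List.map_cons, List.pairwise_cons]
        refine ⟨?_, h2⟩
        intro q hq
        obtain ⟨w', hw', rfl⟩ := List.mem_map.1 hq
        exact h1 w' hw'

theorem getElem_inj_of_pairwise_lt {L : List ℕ} (h : L.Pairwise (· < ·)) {i j : ℕ} (hi : i < L.length)
    (hj : j < L.length) (he : L[i] = L[j]) : i = j := by
  rw [List.pairwise_iff_getElem] at h
  rcases lt_trichotomy i j with hlt | heq | hlt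
  · exact absurd he (ne_of_lt (h i j hi hj hlt))
  · exact heq
  · exact absurd he.symm (ne_of_lt (h j i hj hi hlt))

/-- Step of a chain of centralisers, general form. -/
theorem cstep_gen {H : Type*} [Group H] [Finite H] {K : Subgroup H} (x : H) {n : ℕ} (c : Fin n → H)
    (hK : ∀ i, c i ∈ K) (hc : Function.Injective fun i => (c i)⁻¹ * x * c i) :
    n * Nat.card (K ⊓ Subgroup.centralizer {x} : Subgroup H) ≤ Nat.card K := by
  have hinj : Function.Injective fun y : Fin n × (K ⊓ Subgroup.centralizer {x} : Subgroup H) =>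
      (⟨(y.2 : H) * c y.1, mul_mem y.2.2.1 (hK _)⟩ : K) := by
    rintro ⟨i, k⟩ ⟨j, l⟩ hij
    have e : (k : H) * c i = l * c j := congrArg Subtype.val hij
    have key : ∀ (k : (K ⊓ Subgroup.centralizer {x} : Subgroup H)) (i : Fin n),
        ((k : H) * c i)⁻¹ * x * ((k : H) * c i) = (c i)⁻¹ * x * c i := by
      intro k i
      have hk : (k : H) * x = x * k := Subgroup.mem_centralizer_singleton_iff.1 k.2.2
      calc ((k : H) * c i)⁻¹ * x * ((k : H) * c i)
          = (c i)⁻¹ * (k : H)⁻¹ * (x * k) * c i := by group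
        _ = (c i)⁻¹ * (k : H)⁻¹ * (k * x) * c i := by rw [hk]
        _ = _ := by group
    have hij : i = j := hc (by
      show (c i)⁻¹ * x * c i = (c j)⁻¹ * x * c j
      rw [← key k i, ← key l j, e])
    subst hij
    have : k = l := Subtype.ext (mul_right_cancel e)
    rw [this]
  have h := Nat.card_le_card_of_injective _ hinj
  rwa [Nat.card_prod, Nat.card_fin] at h

/-- Step of a chain of centralisers: the `ws` conjugate `x` to different elements. -/
theorem cstep {K : Subgroup M} (x : M) {ws : List (List ℕ)} (hK : ∀ w ∈ ws, wv gen z w ∈ K) {p : ℕ}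
    (h : incrC (cd x) ws p = true) :
    ws.length * Nat.card (K ⊓ Subgroup.centralizer {x} : Subgroup M) ≤ Nat.card K := by
  obtain ⟨-, h2⟩ := incrC_spec h
  refine cstep_gen x (fun i : Fin ws.length => wv gen z ws[i]) (fun i => hK _ (List.getElem_mem _)) ?_
  intro i j hij
  have e3 : cjN (cd x) ws[i] = cjN (cd x) ws[j] := by
    rw [← cd_cj, ← cd_cj]
    exact congrArg cd hij
  apply Fin.ext
  refine getElem_inj_of_pairwise_lt h2 (by simp) (by simp) ?_
  simp only [List.getElem_map]
  exact e3

/-- the codes of the words are strictly increasing (all larger than `p`) -/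
noncomputable def incrW : List (List ℕ) → ℕ → Bool
  | [], _ => true
  | w :: ws, p => force (wN w) fun q => bif Nat.blt p q then incrW ws q else false

theorem incrW_cons (w : List ℕ) (ws : List (List ℕ)) (p : ℕ) :
    incrW (w :: ws) p = bif Nat.blt p (wN w) then incrW ws (wN w) else false :=
  force_eq (wN w) fun q => bif Nat.blt p q then incrW ws q else false

theorem incrW_spec {ws : List (List ℕ)} {p : ℕ} (h : incrW ws p = true) :
    (∀ w ∈ ws, p < wN w) ∧ (ws.map wN).Pairwise (· < ·) := by
  induction ws generalizing p with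
  | nil => exact ⟨by simp, by simp⟩
  | cons w ws ih =>
    rw [incrW_cons] at h
    cases hb : Nat.blt p (wN w) with
    | false => rw [hb] at h; simp at h
    | true =>
      rw [hb, cond_true] at h
      obtain ⟨h1, h2⟩ := ih h
      have hlt : p < wN w := Nat.le_of_ble_eq_true hb
      refine ⟨?_, ?_⟩
      · intro w' hw'
        rcases List.mem_cons.1 hw' with rfl | hw'
        · exact hlt
        · exact lt_trans hlt (h1 w' hw')
      · rw [List.map_cons, List.pairwise_cons]
        refine ⟨?_, h2⟩
        intro q hq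
        obtain ⟨w', hw', rfl⟩ := List.mem_map.1 hq
        exact h1 w' hw'

/-- A subgroup of order at most `ws.length` containing the different values of the words `ws` consists of them. -/
theorem exists_word_of_card {K : Subgroup M} {ws : List (List ℕ)} (hK : ∀ w ∈ ws, wv gen z w ∈ K) {p : ℕ}
    (h : incrW ws p = true) (hc : Nat.card K ≤ ws.length) : ∀ g ∈ K, ∃ w ∈ ws, g = wv gen z w := by
  obtain ⟨-, h2⟩ := incrW_spec h
  have hfin : Finite M := inferInstance
  have hinj : Function.Injective fun i : Fin ws.length => (⟨wv gen z ws[i], hK _ (List.getElem_mem _)⟩ : K) := by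
    intro i j hij
    have e : wv gen z ws[i] = wv gen z ws[j] := congrArg Subtype.val hij
    have e2 : wN ws[i] = wN ws[j] := by rw [← cd_wv, ← cd_wv, e]
    have hij' : (i : ℕ) = j := by
      refine getElem_inj_of_pairwise_lt h2 (by simp) (by simp) ?_
      simp only [List.getElem_map]
      exact e2
    exact Fin.ext hij'
  have hb : Function.Bijective fun i : Fin ws.length => (⟨wv gen z ws[i], hK _ (List.getElem_mem _)⟩ : K) := by
    rw [Nat.bijective_iff_injective_and_card]
    refine ⟨hinj, ?_⟩
    rw [Nat.card_fin]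
    apply le_antisymm _ hc
    have := Nat.card_le_card_of_injective _ hinj
    rwa [Nat.card_fin] at this
  intro g hg
  obtain ⟨i, hi⟩ := hb.2 ⟨g, hg⟩
  exact ⟨ws[i], List.getElem_mem _, (congrArg Subtype.val hi).symm⟩

/-- Two words commute. -/
theorem wv_comm_iff (u v : List ℕ) : wv gen z u * wv gen z v = wv gen z v * wv gen z u ↔
    mulN (wN u) (wN v) = mulN (wN v) (wN u) := by
  rw [← cd_inj, cd_mul, cd_mul, cd_wv, cd_wv]

end Cfsg.Agent.SporRec.TwoSp6.Conj
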