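import Cfsg.Agent.SporRec.TwoSp6.Conj

/-!
Explicit elements of the model `M` of `2·Sp₆(2)` used for the third Conway group: the elementary abelian group
`E = ⟨z, b, e₁, e₂⟩` of order 16, its centraliser (`= E`), the action of its normaliser, and the centraliser of `b, y`
(order 36).
-/

set_option autoImplicit false

namespace Cfsg.Agent.SporRec.TwoSp6.EFacts

open Cfsg.Agent.SporRec.TwoSp6.Mat Cfsg.Agent.Lib.PackMat Cfsg.Agent.SporRec.TwoSp6.Lift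
  Cfsg.Agent.SporRec.TwoSp6.Model Cfsg.Agent.SporRec.TwoSp6.Order Cfsg.Agent.SporRec.TwoSp6.Conj

/-- value of a word in the model -/
noncomputable abbrev v (w : List ℕ) : M := wv gen z w

def bW : List ℕ := [1,4,6]
def e1W : List ℕ := [0,2,0,3,1,2,3,4,3,1,2,0,3,2,6,7]
def e2W : List ℕ := [0,2,0,4,5,4,3,1,2,3,4,5,6,5,4,3,1,2,0,3,2,4,5]
def yW : List ℕ := [0,2,0,3,1,2,0,3,2,4,3,1,2,0,3,2,4,3,5,4,6,5,4,7]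
def xW : List ℕ := [2,0,7]
def kW : List ℕ := [0,5,4,6,5]
def sW : List ℕ := [0,1,4,6,7]
def nW : List ℕ := [3,2,0,4,3,1,2,3]
def mW : List ℕ := [2,0,3,1,2,0,3,2,6,7]
def m2W : List ℕ := [3,2,0,4,3,1,2,0,3,7]

/-- words of the 16 elements of `E` -/
def EL : List (List ℕ) := [
  [], [7],
  [1,4,6], [7,1,4,6],
  [0,2,0,3,1,2,3,4,3,1,2,0,3,2,6,7], [7,0,2,0,3,1,2,3,4,3,1,2,0,3,2,6,7],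
  [1,4,6,0,2,0,3,1,2,3,4,3,1,2,0,3,2,6,7], [7,1,4,6,0,2,0,3,1,2,3,4,3,1,2,0,3,2,6,7],
  [0,2,0,4,5,4,3,1,2,3,4,5,6,5,4,3,1,2,0,3,2,4,5], [7,0,2,0,4,5,4,3,1,2,3,4,5,6,5,4,3,1,2,0,3,2,4,5],
  [1,4,6,0,2,0,4,5,4,3,1,2,3,4,5,6,5,4,3,1,2,0,3,2,4,5], [7,1,4,6,0,2,0,4,5,4,3,1,2,3,4,5,6,5,4,3,1,2,0,3,2,4,5],
  [0,2,0,3,1,2,3,4,3,1,2,0,3,2,6,7,0,2,0,4,5,4,3,1,2,3,4,5,6,5,4,3,1,2,0,3,2,4,5], [7,0,2,0,3,1,2,3,4,3,1,2,0,3,2,6,7,0,2,0,4,5,4,3,1,2,3,4,5,6,5,4,3,1,2,0,3,2,4,5],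
  [1,4,6,0,2,0,3,1,2,3,4,3,1,2,0,3,2,6,7,0,2,0,4,5,4,3,1,2,3,4,5,6,5,4,3,1,2,0,3,2,4,5], [7,1,4,6,0,2,0,3,1,2,3,4,3,1,2,0,3,2,6,7,0,2,0,4,5,4,3,1,2,3,4,5,6,5,4,3,1,2,0,3,2,4,5]]

/-- the word of the `i`-th element of `E` -/
def ew (i : ℕ) : List ℕ := EL.getD i []

/-- the codes of the 16 elements of `E` -/
def EC : List ℕ := [
  0x1000000000000000000000000001000000000000000000000000001000000000000000000000000001000000000000000000000000001000000000000000000000000001000000000000000000000000001000000000000000000000000001,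
  0x2000000000000000000000000002000000000000000000000000002000000000000000000000000002000000000000000000000000002000000000000000000000000002000000000000000000000000002000000000000000000000000002,
  0x1000000000000000000000000002000000000000000000000000001000000000000000000000000001000000000000000000000000002000000000000000000000000002000000000000000000000000002000000000000000000000000001,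
  0x2000000000000000000000000001000000000000000000000000002000000000000000000000000002000000000000000000000000001000000000000000000000000001000000000000000000000000001000000000000000000000000002,
  0x2000000000000000000002000000000000001000000000000000000001000000000000000000000000000000002000000000000000000002000000000000002000000000000000000002000000000000000000000,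
  0x1000000000000000000001000000000000002000000000000000000002000000000000000000000000000000001000000000000000000001000000000000001000000000000000000001000000000000000000000,
  0x2000000000000000000001000000000000001000000000000000000001000000000000000000000000000000001000000000000000000001000000000000001000000000000000000002000000000000000000000,
  0x1000000000000000000002000000000000002000000000000000000002000000000000000000000000000000002000000000000000000002000000000000002000000000000000000001000000000000000000000,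
  0x2000000000000000000000000002000000000000000000000000000000001002000000000000000000000000002000000000000000000000000000000000000002000000000000000000002000000000000001000000000000000,
  0x1000000000000000000000000001000000000000000000000000000000002001000000000000000000000000001000000000000000000000000000000000000001000000000000000000001000000000000002000000000000000,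
  0x2000000000000000000000000001000000000000000000000000000000001002000000000000000000000000001000000000000000000000000000000000000001000000000000000000001000000000000001000000000000000,
  0x1000000000000000000000000002000000000000000000000000000000002001000000000000000000000000002000000000000000000000000000000000000002000000000000000000002000000000000002000000000000000,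
  0x2000000000000000000000000000000001000000002000000000000000000000000000000000000000000001000000000000000000001000000001000000000000000000000000000000001000000000000000000001000000000000,
  0x1000000000000000000000000000000002000000001000000000000000000000000000000000000000000002000000000000000000002000000002000000000000000000000000000000002000000000000000000002000000000000,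
  0x2000000000000000000000000000000002000000002000000000000000000000000000000000000000000001000000000000000000002000000002000000000000000000000000000000002000000000000000000001000000000000,
  0x1000000000000000000000000000000001000000001000000000000000000000000000000000000000000002000000000000000000001000000001000000000000000000000000000000001000000000000000000002000000000000]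

theorem EC_eq : EL.map wN = EC := by decide +kernel

theorem cd_ew (i : ℕ) (hi : i < 16) : cd (v (ew i)) = EC.getD i 0 := by
  rw [cd_wv, ← EC_eq]
  have hl : EL.length = 16 := rfl
  unfold ew
  rw [List.getD_eq_getElem?_getD, List.getD_eq_getElem?_getD, List.getElem?_map,
    List.getElem?_eq_getElem (by rw [hl]; exact hi)]
  rfl

theorem EC_mul : ∀ i < 16, ∀ j < 16, mulN (EC.getD i 0) (EC.getD j 0) = EC.getD (i ^^^ j) 0 := by decide +kernel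

theorem EC_inj : ∀ i < 16, ∀ j < 16, EC.getD i 0 = EC.getD j 0 → i = j := by decide +kernel

theorem xor_lt : ∀ i < 16, ∀ j < 16, i ^^^ j < 16 := by decide +kernel

theorem ew_mul {i j : ℕ} (hi : i < 16) (hj : j < 16) : v (ew i) * v (ew j) = v (ew (i ^^^ j)) := by
  rw [← cd_inj, cd_mul, cd_ew i hi, cd_ew j hj, cd_ew _ (xor_lt i hi j hj), EC_mul i hi j hj]

theorem ew_inj {i j : ℕ} (hi : i < 16) (hj : j < 16) (h : v (ew i) = v (ew j)) : i = j := by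
  rw [← cd_inj, cd_ew i hi, cd_ew j hj] at h
  exact EC_inj i hi j hj h

theorem ew_zero : v (ew 0) = 1 := rfl

theorem ew_one : v (ew 1) = z := by
  show lt gen z 7 * 1 = z
  rw [mul_one]; rfl

theorem ew_two : v (ew 2) = v bW := rfl

theorem ew_four : v (ew 4) = v e1W := rfl

theorem ew_eight : v (ew 8) = v e2W := rfl

/-! ### Centralisers -/

def T630 : List (List ℕ) := [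
  [3,1,2,0,3,2], [3,1,2,0,3,2,5,4,3,1,2,0,3,2,4,3,5,4,6,5,4,3], [3,1,2,0,3,2,5,4,3,2,0], [3,1,2,0,5,4,3,2,6,5,4,3,1], [3,2,0,4,3,2,5,4,3,1,2,3,4,5], [3,1,2,0,3,5,4,3,1,2,3,4,5,6], [3,1,2,3,5,4,3,1,2,0,3,6,5], [3,2,0,4,3,2,5,4,3,1,6,5,4,3,2], [3,1,2,0,3,2,5,4,3,1,2,3,4,6,5,4,3,1,2,0], [3,2,0,4,3,2,5,4,3,1,2,3,4,5,6,5,4,3,2,0],
  [0,3,2,5,4,3], [3,2,5,4,3,1,6], [3,1,2,0,3,2,5,4,3,1,2,0,3,2,4,3,1,5,4,3,6,5], [3,2,0,4,3,2], [3,2,0,4,3,5,4,3,1,2,3,4,5,6], [3,1,2,0,3,2,5,4,3,1,2,3,4,5], [3,1,2,0,3,2,5,4,3,1,2,0,6], [3,2,0,4,3,2,5,4,3,2,0], [3,1,2,0,3,2,5,4,3,1,6,5,4,3,2], [3,1,2,0,3,5,4,3,1,6,5,4,3],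
  [3,1,2,0,3,2,5,4,3,1,2,3,4,5,6,5,4,3,2,0], [3,1,2,0,3,2,5,4,3,1,2,0,3,4,6,5,4,3,2,0], [3,2,5,4,3,1,2], [3,2,5,4,3], [3,1,2,0,3,2,5,4,3,1,2,0,3,2,4,3,1,5,4,6,5], [0,3,2,0], [3,2,0,4,3,2,5,4,3,1,2,3,4,6,5,4,3,2,0], [3,1,2,0,3,2,5,4,3,1,2,0,3,4,5,6,5,4,3,2,0], [3,1,2,0,3,5,4,3,2,6,5,4,3,1], [3,1,2,0,3,2,5,4,3,2,6,5,4,3],
  [3,2,0,5,4,3,1,2,3,4,5,6], [3,2,0,4,5,4,3,1,2,3,4,5], [3,2,4,3,5,4,3,1,2,0,3], [3,1,2,3,5,4,3,1,2,0,3,2,6], [3,1,5,4,3,1], [3,1,5,4,3,2], [3,2,0], [3,1,2,0,3,2,5,4,3,1,2,0,3,2,4,3,5,4,6,5,4], [3,1,2,0,3,2,5,4,3,1,2,3,4,5,6,5,4,3,1,2,0], [3,1,2,0,3,2,5,4,3,1,2,3,4,6,5,4,3,2,0],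
  [3,1,2,0,3,2,5,4,3,2,0,6,5,4], [3,1,2,0,3,2,5,4,3,1,2,0,6,5], [3,1,2,0,5,4,3,1,6,5,4,3,2], [3,1,2,3,5,4,3,1,2,0,3], [3,1,2,0,5,4,3,1,2,3,4,5], [0,3,2,0,5,4,3,1,2,3,4,5,6], [3,4,5,4,3,2], [3,1,5,4,3,6], [3,2,0,4,3,5,4,3,1,2,3,4,5], [3,2,0,4,3,2,5,4,3,1,2,3,4,5,6],
  [3,2,0,4,3,2,5,4,3,1,2,0,3,2,4,3], [3,1,5,4,3,2,0,6], [3,1,2,0,3,2,5,4,3,1,2,0,3,2,4,3,1,5,4,3,2,0,6], [3,1,2,0,3,2,5,4,3,1,2,3,4,6,5,4,3,1,2,0,3], [3,1,2,0,3,5,4,3,1,2,3,6,5], [3,1,2,0,3,2,5,4,3,1,2,3,6,5,4], [3,1,2,0], [3,1,2,0,3,2,5,4,3,1,2,0,3,2,4,3,5,4,6,5], [3,1,2,3,5,4,3,1,2,3], [5,4],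
  [3,1,2,0,5,4,6,5], [3,1,2,0,3,2,5,4,3,1,2,0,3,2,4,3], [3,1,2,0,3,2,5,4,3,1,2,3,4,5,6], [3,1,2,0,3,5,4,3,1,2,3,4,5], [3,1,2,0,3,2,5,4,3,1,2,0,3,2,4,6,5,4,3,2,0], [3,1,2,0,3,2,5,4,3,1,2,0,3,2,4,3,5,6,5,4,3,2,0], [3,2,0,4,3,2,5,4,3,1,2,3,6,5,4], [3,2,0,4,3,5,4,3,1,2,3,6,5], [3,2,0,4,3,2,5,4,3,1,2,0,3,2,4,3,5,4,6,5], [3,2,0,4],
  [5,6], [3,2,4,3,5,4,3,1,2,3], [3,1,2,3,5,4,3,1,2,3,6], [5], [3,1,2,3,5,4], [3,1,2,3,5,6], [0,3,2,5,4,3,1], [3,2,5,4,3,2], [3,4,5,4,3], [3,1,2,5,4,6,5],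
  [3,2], [3,4], [3,1,2,3,5,4,3,6,5], [3,1,2,3,5,4,3,1,6,5,4], [0,5], [3,1,2,3,5,4,3,1,2,3,4], [3,2,4,3,5,6], [3,2,4,3,5,4], [3,2,5,4,3,6], [3,2,5,4,3,1],
  [3,1,5,4,3,2,6], [3,1,5,4,3], [3,1,2,3,5,4,3,1,2,6,5], [3,2,4,3,5,4,3,6,5], [3,1], [0,3,2], [3,1,2,0,3,2,5,4,3,1,2,0,3,2,4,5,6,5,4,3,2,0], [3,1,2,0,3,2,5,4,3,1,2,0,3,2,4,3,1,5,4,3,2,0], [3,1,2,0,5,4,3,1,2,0,3,6], [3,2,0,4,5,4,3,1,2,0,3,4],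
  [3,1,2,0,5,4,3,1,2,3,4,5,6], [3,2,0,5,4,3,1,2,3,4,5], [3,1,2,0,3,2,5,4,3,1,2,0,3,2,4,3,5,4,6,5,4,3,2], [3,2,0,4,3], [3,1,2,0,3,2,5,4,6,5], [3,1,2,0,3,5,4,3,1,2,3,6,5,4,3,1,2,3], [3,1,2,3,5], [3,2,4,3,5,4,6], [3,1,2,0,3,2,5,4,3,1,2,0,3,2,4,3,6,5,4,3,2,0], [3,1,2,0,3,2,5,4,3,1,2,3,4,5,6,5,4,3,1,2,0,3],
  [0,3,2,0,5,4,3,1,2,3,4,5], [3,2,0,4,5,4,3,1,2,3,4,5,6], [3,1,2,0,5,4,3,1,2,0,3,4], [3,1,2,0,5,4,3,1,2,0,3,2], [3,1,2,0,3], [3,1,2,0,3,2,5,4,3,1,2,0,3,2,4,3,1,5,4,3,2,6,5], [3,1,2,0,3,2,5,4,3,1,2,0,3,2,6,5,4,3], [3,2,0,4,3,2,5,4,6,5], [3,1,2,3,5,4,6], [3,2,4,3,5],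
  [3,2,0,4,3,2,5,4,3,1,2,3,6,5], [3,1,2,0,3,5,4,3,1,2,3,6,5,4], [3,1,2,0,3,2,5,4,3,1,2,3,6,5,4,3,1,2,3], [3,2,0,4,3,5,4,6,5], [3,1,2,3,5,4,3,1,2,0,3,2,6,5], [3,1,2,0,3,2,5,4,3,1,6,5,4,3], [3,2,4,3,5,4,3,1,6,5], [3,1,2,3,5,4,3,6,5,4], [3,1,2,0,3,2,5,4,3,1,2,6,5,4,3,2,0], [3,1,2,0,3,2,5,4,3,1,2,0,3,6,5,4,3,2,0],
  [3,1,2,0,3,2,5,4,3,1,2,0,6,5,4], [3,1,2,0,3,5,4,3,2,6,5,4,3], [3,2,0,4,3,5,4,3,1,2,3,6,5,4], [3,1,2,0,3,2,5,4,3,1,2,3,6,5], [3,1,2,0,3,5,4,6,5], [3,1,2,0,3,2,5,4,3,1,2,0,3,2,6,5,4,3,2], [3,2,0,4,3,2,5,4,3,1,6,5,4,3], [3,1,2,0,3,5,4,3,1,6,5,4,3,2], [3,1,2,0,3,2,5,4,3,1,2,3,6,5,4,3,1,2,0], [3,2,0,4,3,2,5,4,3,1,2,6,5,4,3,2,0],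
  [3,1,2,3,5,4,3,2,6,5], [3,1,2,3,5,4,3,1,6,5], [3,1,2,0,3,2,5,4,3,2,0,6,5], [3,1,2,0,3,2,5,4,3,2,6,5,4,3,1], [3,1,2,0,5,4,3,1,2,0,3,2,4], [3,2,0,4,5,4,3,1,2,0,3], [3,1,5,4,3,2,0], [3,1,2,0,3,2,5,4,3,1,2,0,3,2,4,3,6], [3,1,2,3,5,4,3,1,2,0,3,6], [3,1,2,3,5,4,3,1,2,0,3,2],
  [3,1,2,0,3,2,5,4,3,1,2,3,6,5,4,3,2,0], [3,1,2,0,3,2,5,4,3,1,2,6,5,4,3,1,2,0], [3], [3,1,2], [3,1,2,0,5,4,3,2,6,5,4,3], [3,2,0,4,3,2,5,4,3,1,2,0], [3,1,2,0,5,4,3,1,2,0,3], [3,1,2,0,5,4,3,1,2,0,3,4,6], [3,1,2,0,3,2,5,4,3,1,2,0,3,2,4,3,1], [3,4,5,4,3,2,0],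
  [3,2,4,3,5,4,3,1,2,0,3,2], [3,1,2,0,5,4,3,1,6,5,4,3], [3,2,4], [0,3], [3,1,2,0,3,2,5,4,3,1,2,0,6,5,4,3,2,0], [3,2,0,4,3,2,5,4,3,1,2,3,6,5,4,3,2,0], [3,1,2,0,3,2,5,4,3,1,2,0], [3,1,2,0,3,2,5,4,3,2,0,6], [3,1,2,0,3,2,5,4,3,1,2,0,3,2,4,3,1,5,4,3,2,0,6,5], [3,1,2,3,5,4,3,1,2,3,4,5],
  [3,2,4,3,5,4,6,5], [], [3,2,4,3], [3,2,0,4,3,2,5,4,3,1,6,5,4,3,2,0], [3,1,2,0,3,2,5,4,3,1,2,0,3,2,6,5,4,3,2,0], [3,1,2,0,5,4,3,1,2,3,4,6], [3,1,2,0,3,5,4], [3,1,2,0,3,2,5,4,3,1,2,3,4,5,6,5,4,3,1,2,3], [3,2,0,5,4,3,1,2,3,4,6,5], [3,1,2,0,3,2,5,4,3,1,2,0,3,2,4,3,6,5,4,3,2],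
  [3,2,0,4,5,4,3,1,2,0,3,4,5,6], [3,2,0,4,5,4,3,1,2,3], [3,2,0,4,3,5,6], [3,2,0,4,3,5,4,3,2,6,5], [3,1,2,0,3,5,4,3,1,2,3,6,5,4,3,2], [3,1,2,0,3,5,4,3,1,2,0,3,2], [3,2,0,4,3,5,4,3,2,0], [3,2,0,4,3,2,5,4,3,1,6,5], [3,1,2,0,3,2,5,4,3,1,2,3,6,5,4,3,1], [3,1,2,0,5,4,3,1,2,6,5,4,3,1],
  [3,1,2,3,5,4,3,1,2,0,6], [3,1,2,0,3,2,5,4,3,6,5,4], [3,2,0,4,3,2,5,4,3,1,2,6,5,4,3], [3,1,2,5,4,3,2,0], [3,2,0,4,3,5,4,3,1,2,0,3,4], [3,1,2,0,3,5,4,3,1,2,6,5,4], [3,1,2,0,3,2,5,4,3,1,2,0,3,2,6,5], [3,1,2,0,5,4,3,1,2,6,5], [3,1,2,0,3,2,5,4,3,1,2,0,3,2,4,6], [3,2,0,4,3,5,4,3,1,2,3,4],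
  [3,2,0,4,3,5,4,3,1,2,3,4,6,5,4], [3,2,0,4,3,2,5,4,3,1,2,3,6], [3,2,0,4,3,2,5,4,3,1,2,3,4,5,6,5], [3,1,2,0,3,2,5,4,3,1,2,0,3,4,6,5,4], [3,1,2,0,3,5,4,3,1,6], [3,1,2,0,3,2,5,4,3,1,2,3,4,5,6,5,4,3,1], [3,2,0,4,3,2,5,4,3,1], [3,1,2,0,3,5,4,3,1,2,0,3,4,5,6,5], [3,1,2,0,5,4,3], [3,1,2,0,3,2,5,4,3,6],
  [3,2,0,4,3,2,5,4,3,1,2,3,4,6,5,4,3], [3,1,2,0,5,4,3,1,2,0], [3,2,0,4,3,2,5,4,3,1,2,0,3,2,4], [3,1,2,0,3,2,5,4,3,1,2,0,6,5,4,3,2], [3,1,2,0,3,2,5,4,3,1,2,6,5,4], [3,1,2,0,3,5,4,3,2,0,6], [3,1,2,0,5,4,3,1,2,6,5,4,3,2], [3,2,0,4,3,2,5,4,3,2,6,5], [3,1,2,0,3,2,5,4,3,1,2,3,6,5,4,3,2], [3,1,2,0,3,2,5,4,3,1,2,0,3,2,4,3,5,4,6],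
  [3,2,0,5,4,6], [3,1,2,0,3,2,5,4,3,1,2,0,3,2,4,3,1,5], [3,1,2,0,5], [3,2,0,4,3,5,4,3,1,2], [3,1,2,0,3,5,4,3,1,2,0,3,2,4,3,1,5,4,6], [3,1,2,0,3,2,5,4,3,1,2,0,3,2,4,5], [3,2,0,5,4,3,1,2,0], [3,2,0,4,5,4,3,2,6], [3,1,2,0,3,5,4,3,1,2,0,3,2,4,3,5], [3,2,0,5,4,3,2],
  [3,2,0,4,3,5,4,3,1,2,0,3,2,4,5,6], [3,1,2,0,5,4,3,6,5], [3,1,2,0,3,5,4,3,1,2,0,3,4,6], [3,1,2,0,3,5,4,3,1,2,0,3,6,5], [3,1,2,0,3,5,4,3,6,5,4], [3,2,4,3,5,4,3,1,2,0], [3,1,2,0,3,2,5,4,3,1,2,0,3], [3,2,0,4,3,5,4,3,1,6,5], [3,1,2,0,3,5,4,3,1,2,3,6,5,4,3,1], [3,1,2,0,3,5,4,3,1,2,0,3,2,4,3],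
  [3,1,2,0,5,4,3,6,5,4], [3,2,0,4,3,2,5,4,3,1,2,0,3,2], [3,2,4,5,4,3,1,2,0], [3,5,4,3,2], [3,2,4,3,5,4,3,6], [3,2,4,5], [3,2,4,5,4,3,1], [3,2,0,4,3,5,4,3,1,2,3,4,6,5], [3,1,2,0,3,2,5,4,3,1,2,0,3,2,4,3,1,5,4], [3,1,2,0,3,5,4,3,1,2,0,3,2,4,3,1,5,4,3],
  [3,1,2,0,5,4,3,1,2,0,3,4,6,5], [3,2,0,4,3,2,5,4,3,1,2,3,4,6,5,4,3,2], [3,1,2,0,3,2,5,4,3,1,2,0,3,4,5], [3,2,0,4,3,2,5,4,3,1,2,3,4,5,6,5,4], [3,1,2,0,3,2,5,4,3,1,2,0,3,2,4,3,5,6], [3,1,2,0,5,4,3,1,2,3,4,5,6,5], [3,1,2,0,3,2,5,4,3,1,2,0,3,2,4,3,5,6,5,4,3], [3,2,0,4,3,5,4,3,1,2,0,3,4,5,6], [3,1,2,0,3,2,5,4,3,1,2,3,4,5,6,5,4,3,1,2], [3,1,2,5,4,3,2,6],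
  [3,1,2,3,5,4,3,1,2], [3,1,2,0,3,2,5,4,3,1,2,0,3,4,6], [3,1,2,0,3,5,4,3,1,2,0,3], [3,1,2,0,3,5,4,3,1,2,0,3,2,4,3,1,5], [3,1,2,0,3,5,4,3,1,2,0,3,2,4,3,5,4,6], [3,5,6], [3,1,5,4], [3,1,2,0,3,5,4,3,1,2,0,6], [3,1,2,0,5,4,3,2,0], [3,1,2,0,3,5,4,3,1,2,0,3,4,6,5,4],
  [3,1,2,0,3,2,5,4,3,1,2,0,3,4,5,6,5], [3,1,2,0,3,2,5,4,3,1,2,0,3,4], [3,1,2,0,3,5,4,3,1,2,0], [3,1,2,0,3,5,4,3,1,2,0,3,6], [3,1,2,0,5,4,3,2,0,6], [3,1,2,3,5,4,3,1,2,6], [3,1,5,4,6], [3,1,2,5,4,3,2], [3,5], [3,2,0,5,6],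
  [3,2,0,4,3,2,5,4,3,1,2,3,4,6], [3,2,0,5,4,3,1,2,0,3], [3,1,2,0,3,2,5,4,6], [3,1,2,0,3,2,5,4,3,2,6], [3,2,5,4,3,1,2,0], [3,1,2,0,5,4], [3,2,0,4,3,5,4,3,1,2,3], [3,2,0,4,3,2,5], [3,2,0,5,4,3,1,2,3,4], [3,2,0,5,4,3],
  [3,2,0,4,3,2,5,4,3,1,2], [3,2,4,3,5,4,3], [3,2,4,5,4,3,1,6], [3,1,2,0,5,4,3,1,6,5], [3,2,4,3,5,4,3,2,0], [3,2,0,4,5,4,3,1,2,6], [3,2,0,4,3,5,4,3,2], [0,3,2,5,4], [3,2,4,5,6], [3,1,2,0,5,4,3,1,2,6,5,4,3,1,2],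
  [3,2,0,4,3,5,4,3,1,2,0,3,2,4], [3,1,2,0,3,5,4,3,6], [3,1,2,0,5,4,3,1], [3,2,0,4,3,2,5,4,3,1,2,3,6,5,4,3], [3,2,0,4,3,2,5,4,3,1,6,5,4], [3,1,2,0,3,5,4,3,1,2,6,5,4,3,2], [3,1,2,0,3,5,4,3,1,2,6,5], [3,2,4,5,4,3,1,2], [3,2,5], [3,1,2,3,5,4,3,1,6],
  [3,5,4,3], [3,1,2,0,3,5], [3,2,0,4,5,4,3,1,2,3,4], [3,1,2,0,3,2,5,4,3,1,2,3], [0,3,2,0,5,4], [3,1,2,0,5,4,3,2], [3,2,0,4,3,5,4,3,1], [3,1,2,0,5,4,3,1,2,0,3,4,5], [3,1,2,0,3,2,5,4,3,1,2,0,3,2,4,6,5,4,3,2], [3,1,2,0,3,2,5,4,3,1,2,3,4,6,5],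
  [3,2,0,4,3,2,5,4,3,1,2,0,3,2,4,3,5,4], [3,1,2,0,5,4,3,1,2,0,3,2,4,3,5], [3,1,2,0,3,2,5,4,3,1,2,0,3,2,4,6,5,4], [3,1,5,6], [3,2,4,5,4], [3,1,2,0,3,2,5,4,3,1,2,0,3,6,5], [3,2,0,4,3,5,4,3,6,5], [3,2,0,5,4,3,1,2], [3,1,2,0,3,5,4,3,1,2,0,3,2,4,5], [3,2,4,5,4,3,6],
  [3,1,2,3,5,4,3,2], [3,1,2,0,3,2,5,4,3,1,2,3,6,5,4,3,1,2], [3,1,2,0,3,2,5,4,3,2,6,5,4], [3,2,0,4,3,2,5,4,3], [3,1,2,0,3,2,5,4,3,1,2,0,3,4,6,5,4,3], [3,1,2,0,5,4,3,1,6], [3,2,0,4,3,5,4,3,2,6], [3,2,0,4,3,2,5,4,3,1,2,6], [3,2,0,5,4,3,6], [3,2,0,4,3,2,5,6],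
  [3,2,0,5,4,3,1,2,3,4,6], [3,1,2,0,5,4,6], [3,2,0,4,3,5,4,3,1,2,3,6], [3,1,2,0,3,5,4,3,1,2,0,3,2,4,3,1,5,6], [3,1,2,0,3,5,4,3,1,2,0,3,4,5,6,5,4], [3,2,0,4,3,2,5,4,3,1,2,3,4,5,6,5,4,3,2], [3,1,2,0,3,2,5,4,3,1,2,0,3,4,5,6], [3,1,2,0,5,4,3,1,2,0,3,4,5,6,5], [3,1,2,0,3,5,4,3,1,2,0,3,2,4,3,1,5,4,3,6], [3,1,2,0,3,2,5,4,3,1,2,0,3,2,4,3,1,5,4,6],
  [3,2,0,4,3,5,4,3,1,2,3,4,5,6,5], [3,1,2,0,3,2,5,4,3,1,2,0,3,2,6,5,4], [3,1,2,0,3,5,4,3,2,0,6,5], [3,1,2,0,3,2,5,4,3,1,2,6,5,4,3,1], [3,1,2,0,3,2,5,4,3,6,5], [3,4,5], [3,1,2,5,4,3], [3,1,2,5,4,6], [3,1,2,5,4,3,6,5,4], [3,2,0,5,4,3,1,2,0,3,4,5,6],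
  [3,1,2,0,3,2,5,4,3,1,2,0,3,2,4,3,1,5,4,3,2,6], [3,1,2,0,3,2,5,4,3,1,2,0,3,2,4,3,5,6,5], [3,1,2,0,3,5,4,3,1,2,3,4,5,6,5,4], [3,1,2,0,3,5,4,3,1,2,0,3,2,4,5,6,5], [3,1,2,0,3,5,4,3,1,2,3,4,5,6,5,4,3,1], [3,2,0,4,3,5,4,6], [3,1,2,0,5,4,3,1,2,3,6], [3,2,0,4,5,6], [3,1,2,0,3,5,4,3,1,2,3,4,6], [3,2,0,4,5,4,3,6],
  [3,1,2,0,3,5,4,3,1,2,6], [3,5,4], [5,4,3,2], [3,1,2,0,3,5,4,3,1,6,5,4], [3,1,2,0,3,5,4,3,1,2,3,6,5,4,3], [3,2,0,4,3,2,5,4,3,1,2,0,3,2,4,5,6], [3,2,0,5,4,3,2,0], [3,2,4,3,5,4,3,1], [3,1,2,5,4,3,1,2,6], [3,2,0,4,3,2,5,4,3,1,2,6,5],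
  [3,2,0,4,3,2,5,4,3,1,2,6,5,4,3,2], [3,1,2,0,3,2,5,4,3,1,2,3,4,5,6,5,4,3], [3,1,2,0,3,2,5,4,3,1,6], [3,1,2,0,3,5,4,3], [3,2,0,4,5,4,3,1,2], [0,3,2,0,5,4,3,1], [3,1,2,0,3,2,5,4,3,2], [0,3,2,0,5,4,3,1,2,3], [3,1,2,0,3,2,5,4], [3,2,0,5],
  [3,2,0,4,3,2,5,4,3,1,2,3,4], [3,1,2,0,3,5,4,3,1,2,0,3,2,4,3,5,4], [3,1,2,0,3,2,5,4,3,1,2,0,3,4,6,5], [3,2,0,4,3,5,4,3,1,2,0,3,4,5], [3,1,2,0,3,2,5,4,3,1,2,3,4,6,5,4,3,1,2], [3,1,2,0,3,2,5,4,3,1,2,0,3,2,4,3,6,5,4,3], [3,1,2,0,5,4,3,1,2,3,4,6,5], [3,1,2,0,3,2,5,4,3,1,2,0,3,2,4,3,5], [3,2,0,4,3,2,5,4,3,1,2,3,4,6,5,4], [3,1,2,0,3,2,5,4,3,1,2,3,6,5,4,3,1,2,0,3],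
  [3,1,2,0,3,2,5,4,3,1,6,5,4,3,2,0], [3,1,2,3], [0], [3,1,2,3,5,4,6,5], [3,1,2,3,5,4,3,1,2,3,6,5], [3,1,2,0,3,2,5,4,3,1,2,0,3,2,4,3,5,4,6,5,4,3,2,0], [3,1,2,0,3,5,6], [3,1,2,0,5,4,3,1,2,3], [3,1,2,0,5,4,3,1,2,0,3,4,5,6], [3,1,2,0,3,2,5,4,3,1,2,0,3,2,4,3,1,5,4,3,2],
  [3,2,0,5,4,3,1,2,0,3,4,5], [3,1,2,0,3,2,5,4,3,1,2,0,3,2,4,5,6,5,4,3,2], [3,2,0,4,3,5,4], [3,2,0,4,5,4,3,1,2,3,4,6], [3,1,2,0,3,5,4,3,1,2,6,5,4,3,1,2], [3,1,2,0,3,5,4,3,1,2,0,6,5], [3,1,2,0,3,5,4,3,1,2,0,3,2,4,3,1], [3,1,2,0,5,4,3,1,2,0,6], [3,1,2,0,3,2,5,4,3,1,2,6,5,4,3], [3,2,0,4,3,2,5,4,3,6,5,4],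
  [3,1,2,0,3,5,4,3,1,2,0,3,4], [3,2,4,5,4,3,2,0], [3,1,2,0,3,2,5,4,3,1,2,0,3,6,5,4,3], [3,1,2,0,3,2,5,4,3,1,6,5], [3,1,2,0,5,4,3,1,6,5,4], [3,1,2,0,3,2,5,4,3,1,2,0,3,6], [3,1,2,0,3,5,4,3,1,2,0,3,2,6,5,4], [3,1,2,0,3,5,4,3,2,6,5], [3,1,2,0,3,5,4,3,2,0], [3,2,0,4,3,5,4,3,1,2,0,3,2],
  [3,2,0,4,5], [3,1,2,0,3,2,5,4,3,1,2,0,3,2,4,3,6,5], [3,5,4,3,2,0], [3,2,0,4,3,2,5,4,3,1,2,0,3,2,4,3,5,4,6], [3,1,2,0,3,5,4,3,1,2,0,3,2,4,6,5], [3,1,2,0,5,4,3,2,6], [3,1,2,0,3,5,4,3,1,2,0,3,2,4,5,6], [0,3,2,0,5,4,3,2], [3,1,2,0,3,2,5,4,3,1,2,0,3,2,4,5,6,5,4], [3,1,2,0,3,5,4,3,1,2],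
  [3,2,0,5,4,3,1,2,6], [3,2,0,4,3,2,5,4,3,1,2,0,3,2,4,5], [3,2,0,4,3,2,5,4,3,1,2,0,3], [3,1,2,3,5,4,3,1,2,0], [3,1,2,0,3,2,5,4,3,1,2,0,3,6,5,4], [3,1,2,0,3,5,4,3,1,6,5], [3,1,2,0,5,4,3,1,2,0,3,2,4,3], [3,1,2,5,4,3,2,0,6], [3,1,2,3,5,4,3,2,0,6,5], [3,1,2,0,3,5,4,3,1,2,6,5,4,3],
  [3,1,2,0,3,2,5,4,3,1,2,3,4,5,6,5], [3,1,2,0,3,2,5,4,3,1,2,3,6], [3,1,2,0,3,5,4,3,1,2,3,4,6,5,4], [3,1,2,0,3,5,4,3,1,2,3,4], [3,2,0,4,5,4,3], [3,1,2,0,5,4,3,1,2,0,3,2,4,3,5,6], [3,1,2,0,3,2,5,4,3,1,2,3,4,6,5,4,3], [3,2,0,4,3,2,5,4,3,6], [3,2,0,4,3,5,4,3,1,6], [3,1,2,0,3,5,4,3,1,2,3,4,6,5,4,3,1],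
  [3,1,2,0,3,2,5,4,3,1], [3,1,2,0,3,2,5,4,3,1,2,0,3,4,5,6,5,4,3], [3,1,2,0,3,5,4,3,1,2,0,3,2,6], [3,1,2,0,5,4,3,2,6,5,4], [3,2,0,4,3,2,5,4,3,1,2,3,6,5,4,3,2], [3,1,2,0,3,2,5,4,3,2,6,5], [3,1,2,0,3,2,5,4,3,1,2,0,3,2,4], [3,2,0,4,5,4,3,1,2,0], [3,2,0,4,3,2,5,4,3,1,2,6,5,4], [3,1,2,0,3,2,5,4,3,1,2,6,5,4,3,1,2],
  [3,1,2,0,5,4,3,2,6,5], [3,1,2,0,5,4,3,1,2,6,5,4,3], [3,2,0,4,3,5,4,3,1,2,0], [3,2,0,4,3,2,5,4,3,1,2,0,3,4], [0,3,5], [3,2,4,5,4,3,2], [3,4,5,4,6], [3,1,2,5,4,3,1,2,3,4], [3,1,2,0,3,5,4,3,1,2,3], [3,2,0,4,5,4],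
  [0,3,2,0,5,4,3,1,2,3,4], [3,1,2,0,3,2,5], [3,1,2,0,3,2,5,4,3,1,2], [0,3,2,0,5,4,3], [3,1,2,0,3,2,5,4,3,1,2,3,4,6], [5,4,3,2,0], [3,2,0,4,3,2,5,4,6], [3,2,0,5,4,3,1,2,3,6], [3,2,0,5,4,3,1,6], [3,2,0,4,3,2,5,4,3,2,6],
  [3,1,2,5,6], [3,2,5,4], [3,1,2,0,3,5,4,3,1,2,0,3,2,4], [3,1,2,0,3,2,5,4,3,1,2,0,3,2,6], [3,2,0,4,5,4,3,1], [3,2,0,4,3,5,4,3,6], [3,1,2,5,4,3,1,6], [3,1,2,3,5,4,3], [3,1,2,3,5,4,3,2,0], [3,1,2,5,4,3,1,2,0,6],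
  [3,1,2,0,3,5,4,3,2], [3,1,2,0,5,4,3,1,2,6], [3,1,2,5,4,3,1,2,0], [3,1,2,0,3,2,5,4,3,1,2,0,3,2], [3,1,2,3,5,4,3,2,0,6], [3,1,2,0,3,5,4,3,1,2,0,3,2,4,6], [3,1,2,5,4,3,1], [3,1,2,5], [3,1,2,3,5,4,3,6], [3,2,5,4,6],
  [3,2,0,4,3,2,5,4,3,1,2,0,3,2,4,3,5,6], [3,1,2,0,3,2,5,4,3,1,2,3,4,5,6,5,4], [3,1,2,0,3,2,5,4,3,1,2,0,3,2,4,3,1,5,4,3,6], [3,2,0,4,5,4,3,1,2,3,4,5,6,5], [3,1,2,0,3,2,5,4,3,1,2,0,3,4,5,6,5,4,3,2], [3,1,2,0,3,5,4,3,1,2,0,3,4,5,6], [3,1,2,0,3,2,5,4,3,1,2,0,3,2,4,3,6,5,4], [3,1,2,0,3,5,4,3,1,2,3,4,6,5], [3,1,2,0,5,4,3,1,2,0,3,2,4,5], [3,1,2,0,3,2,5,4,3,1,2,0,3,2,4,6,5,4,3],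
  [3,2,0,4,3,2,5,4,3,1,2,0,3,4,5], [3,1,2,0,3,2,5,4,3,1,2,3,4,6,5,4,3,2], [3,4,5,4], [5,4,3], [3,2,0,4,5,4,3,2,0], [3,1,2,0,5,4,3,1,2,6,5,4], [3,1,2,0,5,4,3,1,2,0,3,2,4,3,1,5,6], [3,1,2,0,3,5,4,3,1,2,3,4,6,5,4,3], [3,2,4,3,5,4,3,1,2], [3,1,2,5,4,3,6,5],
  [3,2,0,4,3,5,4,3,1,2,0,3], [3,1,2,0,5,4,3,1,2,0,3,2,4,3,1], [3,1,2,0,3,5,4,3,1,2,0,3,2,4,5,6,5,4], [3,1,2,0,3,2,5,4,3,1,2,0,3,2,4,6,5], [3,2,0,4,3,2,5,4,3,6,5], [3,1,2,0,3,2,5,4,3,1,2,0,6,5,4,3], [3,1,2,0,3,5,4,3,2,6,5,4], [3,1,2,0,3,5,4,3,1,2,3,6,5,4,3,1,2], [3,1,2,3,5,4,3,2,6], [3,2,4,5,4,6],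
  [3,2,4,5,4,3], [3,1,5], [3,2,0,4,5,4,3,1,2,3,6], [3,1,2,0,3,5,4,6], [3,2,0,4,3,5,4,3,1,2,3,4,6], [3,1,2,0,5,6], [3,2,0,4,3,5,4,3,1,2,6], [3,1,2,0,5,4,3,6], [3,1,2,0,3,2,5,4,3,1,2,0,3,2,4,3,5,6,5,4,3,2], [3,2,0,5,4,3,1,2,3,4,5,6,5],
  [3,2,0,4,3,5,4,3,1,2,3,4,5,6,5,4], [3,1,2,0,3,2,5,4,3,1,2,0,3,2,4,3,1,5,6], [3,1,2,0,3,2,5,4,3,1,2,0,3,4,5,6,5,4], [3,1,2,0,3,5,4,3,1,2,0,3,2,4,3,5,6], [3,1,2,5,4,3,1,2,3], [3,1,2,3,5,4,3,1], [3,1,2,0,3,2,5,4,3,1,2,6,5,4,3,2], [3,1,2,0,3,2,5,4,3,1,2,6,5], [3,2,0,4,3,2,5,4,3,1,6], [3,2,0,4,3,2,5,4,3,1,2,3,4,5,6,5,4,3],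
  [3,2,5,6], [0,3,5,4], [3,1,2,0,3,5,4,3,1,2,0,3,6,5,4], [3,1,2,3,5,4,3,1,2,0,6,5], [3,2,0,5,4,3,2,6], [3,1,2,0,3,2,5,4,3,1,2,0,3,2,4,5,6], [3,1,2,0,5,4,3,1,2,0,3,2,4,3,1,5], [3,1,2,0,3,5,4,3,1,2,0,3,2,4,6,5,4], [3,1,2,0,3,2,5,4,3,1,2,0,3,4,6,5,4,3,2], [3,1,2,0,3,5,4,3,1,2,0,3,4,5],
  [3,2,0,4,5,4,3,1,2,3,4,6,5], [3,1,2,0,3,2,5,4,3,1,2,0,3,2,4,3,1,5,4,3], [3,1,2,0,3,2,5,4,3,1,2,3,4,6,5,4], [3,2,0,4,3,2,5,4,3,1,2,0,3,2,4,3,5], [3,1,2,0,5,4,3,1,2], [3,2,0,4,3,5,4,3], [3,2,0,4,3,2,5,4,3,2], [3,2,0,5,4,3,1], [3,2,0,4,3,2,5,4], [3,2,0,5,4,3,1,2,3],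
  [3,1,2,0,3,2,5,4,3,1,2,3,4], [0,3,2,0,5], [3,2,0,4,3,5,4,3,1,2,6,5], [3,1,2,0,3,5,4,3,1,2,0,3,2,6,5], [3,1,2,0,3,2,5,4,3,1,6,5,4], [3,1,2,0,3,2,5,4,3,1,2,3,6,5,4,3], [3,5,4,6], [3,2,4,3,5,4,3,1,6], [0,3,2,5], [3,1,2,5,4,3,1,2],
  [3,1,2,0,3,2,5,4,3,1,2,3,4,6,5,4,3,1,2,3], [3,2,0,4,5,4,3,1,2,0,3,4,5], [3,1,2,0,3,2,5,4,3,1,2,0,3,2,4,3,5,4], [3,2,0,4,3,2,5,4,3,1,2,3,4,6,5], [3,1,2,0,3,5,4,3,1,2,0,3,2,4,3,1,5,4], [3,1,2,0,3,5,4,3,1,2,0,3,4,6,5], [3,1,2,0,5,4,3,1,2,3,4], [3,2,0,4,3,5], [3,2,0,5,4], [3,2,0,4,3,2,5,4,3,1,2,3],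
  [3,1,2,0,3,5,4,3,1], [3,2,0,4,5,4,3,2], [3,2,4,3,5,4,3,2], [3,1,2,5,4,3,6], [3,2,0,4,3,2,5,4,3,2,6,5,4], [3,1,2,0,3,2,5,4,3,1,2,0,3,6,5,4,3,2], [3,1,2,0,3,2,5,4,3,1,2,3,4,6,5,4,3,1], [3,1,2,0,3,2,5,4,3], [3,1,2,5,4], [3,4,5,6],
  [3,1,2,0,3,5,4,3,6,5], [3,1,2,0,3,5,4,3,1,2,6,5,4,3,1], [3,2,0,4,3,5,4,3,1,2,0,3,2,4,5], [0,3,2,0,5,4,3,1,2], [3,1,2,0,3,5,4,3,1,2,3,4,5,6,5,4,3], [3,1,2,0,3,2,5,4,3,1,2,0,3,2,4,5,6,5], [3,2,0,4,3,2,5,4,3,1,2,0,3,4,5,6], [3,1,2,0,3,2,5,4,3,1,2,3,4,5,6,5,4,3,2], [3,1,2,0,3,2,5,4,3,1,2,0,3,2,4,5,6,5,4,3], [3,1,2,0,5,4,3,1,2,0,3,2,4,5,6],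
  [3,1,2,0,3,5,4,3,1,2,3,4,5,6,5], [3,1,2,0,3,2,5,4,3,1,2,0,3,2,4,3,5,6,5,4], [3,1,2,0,3,5,4,3,2,6], [3,2,0,4,5,4,3,1,6], [3,2,5,4,3,2,0], [3,1,2,0,3,2,5,4,3,1,2,6], [3,2,0,5,4,3,1,2,0,3,4], [3,1,2,0,3,2,5,6], [3,1,2,0,3,5,4,3,1,2,3,6], [3,2,0,4,5,4,6]]

def T36 : List (List ℕ) := [
  [4], [2,5,4,3,1,2,3,4,5,6,5,4,3,1,2,3,4,5], [0,2,5,4,3,1,6,5,4,3], [0,5,4,3,1,6,5,4,3,2], [2,4,5,4,3,1,2,3,4,5,6,5,4,3,1,2,3,4,5],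
  [], [0,4,5,4,3,1,6,5,4,3,2], [0,1,2,5,4,3,1,6,5,4,3], [0,5,4,3,1,2,3,4,5,6,5,4,3,1,2,3,4,5], [0,2],
  [0,4,5,4,6,5], [2,5,4,3,1,2,3,6,5,4,3,1,2,0,3], [0,2,4], [0,4,5,4,3,1,2,3,4,5,6,5,4,3,1,2,3,4,5], [0,2,5,4,3,1,2,3,6,5,4,3,1,2,3],
  [0,5,4,6,5], [4,5,4,3,1,2,3,6,5,4,3,1,2,3], [2,5,4,6,5], [2,5,4,3,1,6,5,4,3,2], [4,5,4,3,1,6,5,4,3],
  [2,4,5,4,6,5], [5,4,3,1,2,3,6,5,4,3,1,2,3], [5,4,3,1,6,5,4,3], [2,4,5,4,3,1,6,5,4,3,2], [4,5,4,3,1,2,3,4,5,6,5,4,3,1,2,0,3,4,5],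
  [2,0,4,5,4,3,1,6,5,4,3], [0,2,0,5,4,6,5], [2,0], [5,4,3,1,6,5,4,3,2,0], [0,5,4,3,1,2,3,6,5,4,3,1,2,0,3],
  [5,4,3,1,2,3,6,5,4,3,1,2,0,3,2], [1,5,4,3,1,6,5,4,3,2,0], [2,0,4], [0,2,0,4,5,4,6,5], [2,0,5,4,3,1,6,5,4,3],
  [5,4,3,1,2,3,4,5,6,5,4,3,1,2,0,3,4,5]]

def T8 : List (List ℕ) := [
  [6], [1,2,3,1,2,3,4,3,1,2,3], [2,3,1,2,3,4,3,1,2,3,4], [],
  [0,2,3,1,4,3,1,2], [0,3,1,4,3,6], [0,3,1,4,3], [0,1,2,3,1,4,3,2]]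

def T128 : List (List ℕ) := [
  [2,3,1,4,3,1], [1], [3,1,4,3,1,2,0,5,4,3,1,6,5,4,3,2], [3,1,4,3,1,2,0,5,4,6,5],
  [3,1,4,3,5,4,3,1,6,5,4,3,2], [0,3,1,4,3,1,5,4,3,1,6,5,4,3], [3,1,2,3,4,3,1,2,0,3,5,4,3,1,6,5,4,3], [1,3,1,4,3,2,5,4,3,1,2,3,6,5,4,3,1,2,3],
  [0,3,1,4,3,2,0,6], [1,3,1,4,3,2,5,4,3,1,2,3,6,5,4,3,1,2,0,3,2], [3,1,4,3,5,4,3,1,2,0,3,2,6,5,4,3,1,2,0,3,2,4,3], [0,3,1,4,3,1,2,0,5,4,3,1,2,3,6,5,4,3,1,2,0,3,2],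
  [3,1,4,3,2,5,4,3,1,6,5,4,3,2,0], [3,1,2,3,4,3,1,2,3,5,4,3,1,2,3,6,5,4,3,1,2,0,3], [0,5,4,3,1,6,5,4,3,2], [1,3,1,4,3,5,4,3,1,2,3,6,5,4,3,1,2,0,3],
  [0,3,1,4,3,2,0,5,4,3,1,6,5,4,3,1], [0,3,1,4,3,2,0,5,4,3,1,2,3,6,5,4,3,1,2,3,4], [1,3,1,4,3,2], [2,3,1,2,3,4,3,1,2,3,4],
  [0,3,1,4,3,2,5,4,3,1,6,5,4,3,1,2], [1,3,1,4,3,2,5,4,3,1,6,5,4,3], [0,3,1,4,3,2,5,4,6,5,4], [3,1,4,3,5,4,6,5],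
  [2,4,5,4,6,5], [3,1,4,3,2,0,5,4,3,1,2,3,6,5,4,3,1,2,0,3], [1,3,1,2,3,4,3,1,2,3,5,4,6,5], [0,3,1,4,3,2,5,4,3,1,2,3,6,5,4,3,1,2,0,3,4],
  [0,3,1,4,3,2,0,5,4,3,1,6,5,4,3,1,2,0], [0,1,3,1,2,3,4,3,1,2,3,5,4,3,1,2,3,6,5,4,3,1,2,0,3,2], [4,5,4,3,1,6,5,4,3], [3,1,2,3,4,3,1,2,3,5,4,3,1,6,5,4,3,1,2],
  [0,3,1,4,3,2,5,4,6,5], [3,1,4,3,1,2,5,4,3,1,2,3,6,5,4,3,1,2,3], [0,1,3,1,4,3,5,4,3,1,6,5,4,3], [3,1,4,3,1,2,5,4,3,1,6,5,4,3],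
  [0,3,1,4,3,2,0,5,4,3,1,2,3,6,5,4,3,1,2,3], [1,3,1,4,3,2,0,5,4,3,1,6,5,4,3,2], [6], [3,1,4,3,2,6],
  [5,4,3,1,6,5,4,3,1], [0,3,1,2,3,4,3,1,2,3,5,4,3,1,2,3,6,5,4,3,1,2,0,3,2], [2,3,1,2,3,4,3,1,2,3,5,4,3,1,6,5,4,3], [1,3,1,2,3,4,3,1,2,3,5,4,3,1,2,3,6,5,4,3,1,2,0,3],
  [2,3,1,4,3,2,5,4,3,1,2,3,6,5,4,3,1,2,0,3], [2,3,1,2,3,4,3,1,2,3,5,4,3,1,6,5,4,3,2,0], [0,1,3,1,4,3,2,0], [3,1,2,3,4,3,1,2,3,5,4,6,5],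
  [0,1,3,1,4,3,5,4,3,1,2,3,6,5,4,3,1,2,3], [3,1,4,3,5,4,6,5,4], [0,3,1,4,3,2,5,4,3,1,6,5,4,3,2], [3,1,4,3,5,4,3,1,6,5,4,3,1,2],
  [2,3,1,2,3,4,3,1,2,3], [2,3,1,4,3], [1,3,1,4,3,2,0,5,4,6,5], [0,3,1,4,3,2,0,5,4,3,1,6,5,4,3],
  [0,1,5,4,3,1,6,5,4,3,2], [3,1,4,3,2,5,4,3,1,6,5,4,3,1,2,0], [3,1,2,3,4,3,1,2,3,4,5,4,3,1,6,5,4,3,2], [0,3,1,4,3,2,0,5,4,3,1,6,5,4,3,2,0],
  [0,1,3,1,4,3,2,0,5,4,3,1,2,3,6,5,4,3,1,2,0,3,2], [3,1,4,3,2,0,5,4,3,1,2,3,6,5,4,3,1,2,0,3,4], [2,5,4,6,5,4], [3,1,4,3,2,0,5,4,3,1,2,3,4,5,6,5,4,3,1,2,3,4,5],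
  [3,1,4,3,2,0,5,4,3,1,2,3,4,5,6,5,4,3,1,2,0,3,2,4,5], [1,3,1,2,3,4,3,1,2,3,5,4,3,1,6,5,4,3,2], [3,1,4,3,1,2,5,4,3,1,6,5,4,3,2,0], [3,1,4,3,5,4,3,1,2,3,6,5,4,3,1,2,0,3],
  [3,1,2,3,4,3,1,2,3,4,5,4,6,5], [3,1,4,3,2,5,4,3,1,2,3,6,5,4,3,1,2,0,3,2], [0,3,1,2,3,4,3,1,2,3,5,4,3,1,2,3,6,5,4,3,1,2,3], [1,3,1,4,3,2,0,5,4,3,1,2,3,6,5,4,3,1,2,0,3],
  [3,1,4,3,2,5,4,3,1,6,5,4,3,1], [3,1,4,3,1,5,4,3,1,6,5,4,3,2], [1,3,1,4,3,5,4,6,5], [3,1,4,3,2,5,4,3,1,2,3,6,5,4,3,1,2,3],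
  [3,1,4,3,2], [2,3,1,4,3,6], [1,2,3,1,2,3,4,3,1,2,3], [4],
  [3,1,2,3,4,3,1,2,3,5,4,3,1,2,3,6,5,4,3,1,2,0,3,4], [3,1,2,3,4,3,1,2,0,3], [0,1,3,1,4,3,2,0,5,4,3,1,6,5,4,3,2,0], [5,4,3,1,6,5,4,3],
  [0,1,5,4,6,5], [0,3,1,4,3,2,0,5,4,3,1,2,3,6,5,4,3,1,2,0,3,2,4], [0,3,1,4,3,1,2,0], [3,1,2,3,4,3,1,2,0,3,5,4,3,1,6,5,4,3,2,0],
  [0,3,1,4,3,5,4,3,1,6,5,4,3], [0,1,3,1,4,3,2,5,4,3,1,6,5,4,3,2], [0,3,1,4,3,1,2,5,4,6,5], [3,1,2,3,4,3,1,2,0,3,4,5,4,3,1,6,5,4,3],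
  [3,1,4,3,2,0,5,4,3,1,6,5,4,3,2], [0,1,3,1,4,3,2,0,5,4,3,1,6,5,4,3], [0,3,1,4,3,1,2,0,5,4,3,1,2,3,6,5,4,3,1,2,3], [3,1,4,3,2,0,5,4,6,5,4],
  [3,1,4,3,2,5,4,3,1,2,3,6,5,4,3,1,2,0,3,2,4], [0,1,3,1,4,3,2,5,4,3,1,2,3,6,5,4,3,1,2,0,3], [3,1,2,3,4,3,1,2,3,5,4,6,5,4], [0,3,1,4,3,2,0],
  [0,3,1,4,3,2,0,5,4,3,1,2,3,6,5,4,3,1,2,0,3,2], [3,1,4,3,1,2,0,5,4,3,1,2,3,6,5,4,3,1,2,0,3], [2,5,4,6,5], [0,1,3,1,2,3,4,3,1,2,3,5,4,3,1,2,3,6,5,4,3,1,2,3],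
  [3,1,4,3,5,4,3,1,2,3,6,5,4,3,1,2,0,3,4], [2,5,4,3,1,6,5,4,3,1,2], [3,1,2,3,4,3,1,2,3,4,5,4,3,1,2,3,6,5,4,3,1,2,0,3], [1,3,1,4,3,2,5,4,3,1,6,5,4,3,2,0],
  [1,5,4,3,1,6,5,4,3], [3,1,2,3,4,3,1,2,3,5,4,3,1,6,5,4,3,2], [0,3,1,4,3,1,2,0,5,4,3,1,6,5,4,3,2,0], [3,1,4,3,2,0,5,4,3,1,2,0,3,2,6,5,4,3,1,2,0,3,2,4,3],
  [0,1,3,1,4,3,2,0,5,4,3,1,2,3,6,5,4,3,1,2,3], [3,1,4,3,2,0,5,4,6,5], [0,3,1,4,3,1,2,0,5,4,3,1,6,5,4,3], [3,1,4,3,2,0,5,4,3,1,6,5,4,3,1,2],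
  [], [5,4,3,1,6,5,4,3,2,0], [3,1,4,3,1,2], [1,2,3,1,4,3],
  [3,1,4,3,2,5,4,3,1,2,3,6,5,4,3,1,2,3,4], [0,1,3,1,4,3,2,5,4,6,5], [0,3,1,4,3,5,4,3,1,2,3,6,5,4,3,1,2,3], [3,1,4,3,1,5,4,6,5],
  [0,3,1,4,3,1,2,5,4,3,1,6,5,4,3,2], [3,1,4,3,2,5,4,3,1,6,5,4,3], [0,3,1,4,3,5,4,3,1,6,5,4,3,1], [1,3,1,4,3,5,4,3,1,6,5,4,3,2]]

def L16 : List (List ℕ) := [
  [7,0,2,0,3,1,2,3,4,3,1,2,0,3,2,6,7], [7,1,4,6,0,2,0,3,1,2,3,4,3,1,2,0,3,2,6,7],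
  [1,4,6,0,2,0,3,1,2,3,4,3,1,2,0,3,2,6,7], [0,2,0,3,1,2,3,4,3,1,2,0,3,2,6,7],
  [7,0,2,0,4,5,4,3,1,2,3,4,5,6,5,4,3,1,2,0,3,2,4,5], [7,1,4,6,0,2,0,4,5,4,3,1,2,3,4,5,6,5,4,3,1,2,0,3,2,4,5],
  [1,4,6,0,2,0,4,5,4,3,1,2,3,4,5,6,5,4,3,1,2,0,3,2,4,5], [0,2,0,4,5,4,3,1,2,3,4,5,6,5,4,3,1,2,0,3,2,4,5],
  [7,1,4,6,0,2,0,3,1,2,3,4,3,1,2,0,3,2,6,7,0,2,0,4,5,4,3,1,2,3,4,5,6,5,4,3,1,2,0,3,2,4,5], [7,0,2,0,3,1,2,3,4,3,1,2,0,3,2,6,7,0,2,0,4,5,4,3,1,2,3,4,5,6,5,4,3,1,2,0,3,2,4,5],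
  [0,2,0,3,1,2,3,4,3,1,2,0,3,2,6,7,0,2,0,4,5,4,3,1,2,3,4,5,6,5,4,3,1,2,0,3,2,4,5], [1,4,6,0,2,0,3,1,2,3,4,3,1,2,0,3,2,6,7,0,2,0,4,5,4,3,1,2,3,4,5,6,5,4,3,1,2,0,3,2,4,5],
  [], [1,4,6],
  [7,1,4,6], [7]]

def L36 : List (List ℕ) := [
  [0,1,2,0,5,4,3,1,2,0,3,2,6,5,4,3,1,2,0,3,2,4,3,1], [0,2,0,4,5,4,3,1,2,0,3,2,6,5,4,3,1,2,0,3,2,4,3], [0,1,2,0,3,1,2,0,3,2,4,3,1,2,0,3,2,4,3,1,5,4,6,5,7], [0,2,0,3,1,2,0,3,2,4,3,1,2,0,3,2,4,3,5,4,6,5,4,7],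
  [], [1,4,6], [2,0,7], [0,1,5,4,3,1,2,0,3,2,6,5,4,3,1,2,0,3,2,4,3,1,7],
  [0,3,1,2,0,3,2,4,3,1,2,0,3,2,4,3,5,4,6,5,4], [0,1,3,1,2,0,3,2,4,3,1,2,0,3,2,4,3,1,5,4,6,5], [0,4,5,4,3,1,2,0,3,2,6,5,4,3,1,2,0,3,2,4,3,7], [1,2,0,4,6,7],
  [1,2,3,1,2,0,3,2,4,3,1,2,0,3,2,4,3,1,5,4,6,5,7], [2,4,5,4,3,1,2,0,3,2,6,5,4,3,1,2,0,3,2,4,3,7], [0,2,7], [0,1,2,4,6],
  [1,2,5,4,3,1,2,0,3,2,6,5,4,3,1,2,0,3,2,4,3,1], [2,3,1,2,0,3,2,4,3,1,2,0,3,2,4,3,5,4,6,5,4], [0,2,0,4,5,4,3,1,2,0,3,2,6,5,4,3,1,2,0,3,2,4,3,7], [0,1,2,0,5,4,3,1,2,0,3,2,6,5,4,3,1,2,0,3,2,4,3,1,7],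
  [0,2,0,3,1,2,0,3,2,4,3,1,2,0,3,2,4,3,5,4,6,5,4], [0,1,2,0,3,1,2,0,3,2,4,3,1,2,0,3,2,4,3,1,5,4,6,5], [1,4,6,7], [7],
  [2,3,1,2,0,3,2,4,3,1,2,0,3,2,4,3,5,4,6,5,4,7], [1,2,5,4,3,1,2,0,3,2,6,5,4,3,1,2,0,3,2,4,3,1,7], [0,1,2,4,6,7], [0,2],
  [2,4,5,4,3,1,2,0,3,2,6,5,4,3,1,2,0,3,2,4,3], [1,2,3,1,2,0,3,2,4,3,1,2,0,3,2,4,3,1,5,4,6,5], [1,2,0,4,6], [0,4,5,4,3,1,2,0,3,2,6,5,4,3,1,2,0,3,2,4,3],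
  [0,1,3,1,2,0,3,2,4,3,1,2,0,3,2,4,3,1,5,4,6,5,7], [0,3,1,2,0,3,2,4,3,1,2,0,3,2,4,3,5,4,6,5,4,7], [0,1,5,4,3,1,2,0,3,2,6,5,4,3,1,2,0,3,2,4,3,1], [2,0]]

/-- the words commute with the element with code `c` -/
noncomputable def commC (c : ℕ) (ws : List (List ℕ)) : Bool :=
  ws.all fun w => Nat.beq (mulN c (wN w)) (mulN (wN w) c)

theorem commC_spec {x : M} {ws : List (List ℕ)} (h : commC (cd x) ws = true) :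
    ∀ w ∈ ws, v w ∈ Subgroup.centralizer {x} := by
  intro w hw
  rw [Subgroup.mem_centralizer_singleton_iff, ← cd_inj, cd_mul, cd_mul, cd_wv]
  have := List.all_eq_true.1 h w hw
  exact (Nat.eq_of_beq_eq_true this).symm

theorem c630 : incrC (EC.getD 2 0) T630 0 = true := by decide +kernel
theorem c36 : incrC (EC.getD 4 0) T36 0 = true := by decide +kernel
theorem c8 : incrC (EC.getD 8 0) T8 0 = true := by decide +kernel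
theorem c128 : incrC (wN yW) T128 0 = true := by decide +kernel
theorem k36 : commC (EC.getD 2 0) T36 = true := by decide +kernel
theorem k8 : commC (EC.getD 2 0) T8 = true := by decide +kernel
theorem k8' : commC (EC.getD 4 0) T8 = true := by decide +kernel
theorem k128 : commC (EC.getD 2 0) T128 = true := by decide +kernel
theorem i16 : incrW L16 0 = true := by decide +kernel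
theorem i36 : incrW L36 0 = true := by decide +kernel
theorem kb16 : commC (EC.getD 2 0) L16 = true := by decide +kernel
theorem ke16 : commC (EC.getD 4 0) L16 = true := by decide +kernel
theorem kf16 : commC (EC.getD 8 0) L16 = true := by decide +kernel
theorem kb36 : commC (EC.getD 2 0) L36 = true := by decide +kernel
theorem ky36 : commC (wN yW) L36 = true := by decide +kernel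

theorem mem16 : ∀ w ∈ L16, ∃ i < 16, w = ew i := by decide +kernel

/-- the centraliser of `b` in `M` -/
noncomputable def Cb : Subgroup M := Subgroup.centralizer {v (ew 2)}

theorem len630 : T630.length = 630 := by decide +kernel

theorem c630' : incrC (cd (v (ew 2))) T630 0 = true := by rw [cd_ew 2 (by norm_num)]; exact c630

theorem card_Cb_le : Nat.card Cb ≤ 4608 := by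
  have h := cstep (K := ⊤) (v (ew 2)) (ws := T630) (p := 0) (fun w _ => Subgroup.mem_top _) c630'
  rw [len630, top_inf_eq, Subgroup.card_top, card_M] at h
  unfold Cb
  omega

theorem card_Cbe_le : Nat.card (Cb ⊓ Subgroup.centralizer {v (ew 4)} : Subgroup M) ≤ 128 := by
  have h := cstep (K := Cb) (v (ew 4)) (commC_spec (by rw [cd_ew 2 (by norm_num)]; exact k36))
    (by rw [cd_ew 4 (by norm_num)]; exact c36)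
  rw [show T36.length = 36 from by decide +kernel] at h
  have := card_Cb_le
  omega

theorem card_Cbef_le :
    Nat.card (Cb ⊓ Subgroup.centralizer {v (ew 4)} ⊓ Subgroup.centralizer {v (ew 8)} : Subgroup M) ≤ 16 := by
  have h := cstep (K := Cb ⊓ Subgroup.centralizer {v (ew 4)}) (v (ew 8))
    (fun w hw => ⟨commC_spec (x := v (ew 2)) (by rw [cd_ew 2 (by norm_num)]; exact k8) w hw,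
      commC_spec (by rw [cd_ew 4 (by norm_num)]; exact k8') w hw⟩)
    (by rw [cd_ew 8 (by norm_num)]; exact c8)
  rw [show T8.length = 8 from by decide +kernel] at h
  have := card_Cbe_le
  omega

/-- **`C_M(E) = E`.** -/
theorem exists_ew {x : M} (h2 : x * v (ew 2) = v (ew 2) * x) (h4 : x * v (ew 4) = v (ew 4) * x)
    (h8 : x * v (ew 8) = v (ew 8) * x) : ∃ i < 16, x = v (ew i) := by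
  obtain ⟨w, hw, rfl⟩ := exists_word_of_card (K := Cb ⊓ Subgroup.centralizer {v (ew 4)} ⊓
    Subgroup.centralizer {v (ew 8)}) (ws := L16)
    (fun w hw => ⟨⟨commC_spec (x := v (ew 2)) (by rw [cd_ew 2 (by norm_num)]; exact kb16) w hw,
      commC_spec (by rw [cd_ew 4 (by norm_num)]; exact ke16) w hw⟩,
      commC_spec (by rw [cd_ew 8 (by norm_num)]; exact kf16) w hw⟩) i16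
    (by rw [show L16.length = 16 from by decide +kernel]; exact card_Cbef_le) x
    ⟨⟨Subgroup.mem_centralizer_singleton_iff.2 h2, Subgroup.mem_centralizer_singleton_iff.2 h4⟩,
      Subgroup.mem_centralizer_singleton_iff.2 h8⟩
  obtain ⟨i, hi, rfl⟩ := mem16 w hw
  exact ⟨i, hi, rfl⟩

theorem card_Cby_le : Nat.card (Cb ⊓ Subgroup.centralizer {v yW} : Subgroup M) ≤ 36 := by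
  have h := cstep (K := Cb) (v yW) (commC_spec (by rw [cd_ew 2 (by norm_num)]; exact k128))
    (by rw [cd_wv]; exact c128)
  rw [show T128.length = 128 from by decide +kernel] at h
  have := card_Cb_le
  omega

/-- `C_M(b, y)` has the 36 elements of `L36`. -/
theorem exists_L36 {x : M} (h2 : x * v (ew 2) = v (ew 2) * x) (hy : x * v yW = v yW * x) :
    ∃ w ∈ L36, x = v w :=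
  exists_word_of_card (K := Cb ⊓ Subgroup.centralizer {v yW}) (ws := L36)
    (fun w hw => ⟨commC_spec (x := v (ew 2)) (by rw [cd_ew 2 (by norm_num)]; exact kb36) w hw,
      commC_spec (by rw [cd_wv]; exact ky36) w hw⟩) i36
    (by rw [show L36.length = 36 from by decide +kernel]; exact card_Cby_le) x
    ⟨Subgroup.mem_centralizer_singleton_iff.2 h2, Subgroup.mem_centralizer_singleton_iff.2 hy⟩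

/-! ### The action of the normaliser of `E` -/

/-- Elements of the normaliser of `E`: word, indices of the images of `b, e₁, e₂` (conjugation `c⁻¹ x c`). -/
def N14 : List (List ℕ × ℕ × ℕ × ℕ) := [
  ([2,0,3,2,4,3,5,4,3,1,2,0,3,2,4,3,1,5,4,3], 10, 12, 2),
  ([2,0,3,1,2,3,5,4,3,1,2,0,3,2,6,5], 15, 5, 9),
  ([], 2, 4, 8),
  ([2,0,5,4,3,1,2,0,3,2,4,3,1,5,4,3], 12, 10, 3),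
  ([2,0,3,1,2,0,3,5,4,3,1,6,5,4,3,2], 14, 3, 8),
  ([2,0,3,1,2,0,3,2,5,4,6,5], 9, 2, 15),
  ([2,0,3,1,2,0,3,2], 5, 3, 14),
  ([2,0,3,2,0,4,3,2,5,4,3,1,2,0,3,2,4,3,1,5,4,3,6,5], 7, 12, 3),
  ([2,0,3,1,2,0,3,5,4,3,1,2,3,6,5,4,3,1,2,3], 11, 2, 12),
  ([2,0,5,4,3,1,2,0,3,2,4,5], 8, 15, 2),
  ([2,0,3,2,0,4,3,2], 4, 2, 9),
  ([2,0,3,1,2,0,3,2,5,4,3,1,2,0,3,2,4,3,1,5,4,3,6,5], 6, 13, 9),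
  ([0], 3, 4, 8),
  ([2,0,3,1,2,0,3,2,5,4,3,1,6,5,4,3], 13, 3, 10)]

def N12 : List (List ℕ × ℕ × ℕ × ℕ) := [
  ([], 2, 4, 8),
  ([5,4,3,1,6,5,4,3], 2, 12, 4),
  ([4], 2, 5, 8),
  ([0,5,4,6,5], 2, 8, 4),
  ([0,2,5,4,3,1,2,3,6,5,4,3,1,2,3], 2, 10, 5),
  ([4,5,4,3,1,6,5,4,3], 2, 13, 4),
  ([0,4,5,4,6,5], 2, 9, 4),
  ([2,5,4,3,1,2,3,4,5,6,5,4,3,1,2,3,4,5], 2, 7, 9),
  ([2,5,4,3,1,6,5,4,3,2], 2, 15, 5),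
  ([2,5,4,3,1,2,3,6,5,4,3,1,2,0,3], 2, 11, 5),
  ([2,4,5,4,3,1,2,3,4,5,6,5,4,3,1,2,3,4,5], 2, 6, 9),
  ([2,4,5,4,3,1,6,5,4,3,2], 2, 14, 5)]

def N8 : List (List ℕ × ℕ × ℕ × ℕ) := [
  ([], 2, 4, 8),
  ([6], 2, 4, 9),
  ([0,3,1,4,3], 2, 4, 12),
  ([0,1,2,3,1,4,3,2], 2, 4, 14),
  ([0,2,3,1,4,3,1,2], 2, 4, 15),
  ([0,3,1,4,3,6], 2, 4, 13),
  ([2,3,1,2,3,4,3,1,2,3,4], 2, 4, 10),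
  ([1,2,3,1,2,3,4,3,1,2,3], 2, 4, 11)]

/-- the conjugates of `b, e₁, e₂` by the word are as stated -/
noncomputable def chk (t : List ℕ × ℕ × ℕ × ℕ) : Bool :=
  Nat.blt t.2.1 16 && Nat.blt t.2.2.1 16 && Nat.blt t.2.2.2 16 &&
  Nat.beq (cjN (EC.getD 2 0) t.1) (EC.getD t.2.1 0) &&
  Nat.beq (cjN (EC.getD 4 0) t.1) (EC.getD t.2.2.1 0) &&
  Nat.beq (cjN (EC.getD 8 0) t.1) (EC.getD t.2.2.2 0)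

theorem chk_spec {w : List ℕ} {i j k : ℕ} (h : chk (w, i, j, k) = true) :
    i < 16 ∧ j < 16 ∧ k < 16 ∧ (v w)⁻¹ * v (ew 2) * v w = v (ew i) ∧
    (v w)⁻¹ * v (ew 4) * v w = v (ew j) ∧ (v w)⁻¹ * v (ew 8) * v w = v (ew k) := by
  unfold chk at h
  simp only [Bool.and_eq_true] at h
  obtain ⟨⟨⟨⟨⟨h1, h2⟩, h3⟩, h4⟩, h5⟩, h6⟩ := h
  have hi : i < 16 := Nat.le_of_ble_eq_true h1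
  have hj : j < 16 := Nat.le_of_ble_eq_true h2
  have hk : k < 16 := Nat.le_of_ble_eq_true h3
  refine ⟨hi, hj, hk, ?_, ?_, ?_⟩
  · rw [← cd_inj, cd_cj, cd_ew 2 (by norm_num), cd_ew i hi]; exact Nat.eq_of_beq_eq_true h4
  · rw [← cd_inj, cd_cj, cd_ew 4 (by norm_num), cd_ew j hj]; exact Nat.eq_of_beq_eq_true h5
  · rw [← cd_inj, cd_cj, cd_ew 8 (by norm_num), cd_ew k hk]; exact Nat.eq_of_beq_eq_true h6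

theorem chk14 : ∀ t ∈ N14, chk t = true := by decide +kernel
theorem chk12 : ∀ t ∈ N12, chk t = true := by decide +kernel
theorem chk8 : ∀ t ∈ N8, chk t = true := by decide +kernel

theorem ex14 : ∀ i < 16, 2 ≤ i → ∃ t ∈ N14, t.2.1 = i := by decide +kernel
theorem ex12 : ∀ i < 16, 4 ≤ i → ∃ t ∈ N12, t.2.1 = 2 ∧ t.2.2.1 = i := by decide +kernel
theorem ex8 : ∀ i < 16, 8 ≤ i → ∃ t ∈ N8, t.2.1 = 2 ∧ t.2.2.1 = 4 ∧ t.2.2.2 = i := by decide +kernel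

theorem chkn : chk (nW, 4, 3, 13) = true := by decide +kernel
theorem chkm : chk (mW, 5, 3, 15) = true := by decide +kernel
theorem chkm2 : chk (m2W, 4, 2, 13) = true := by decide +kernel
theorem chky : chk (yW, 2, 8, 12) = true := by decide +kernel
theorem chkk : chk (kW, 2, 8, 4) = true := by decide +kernel
theorem chks : chk (sW, 3, 4, 8) = true := by decide +kernel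

end Cfsg.Agent.SporRec.TwoSp6.EFacts
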