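import Cfsg.Agent.SporRec.TwoSp6.Sp
import Cfsg.Prelude.Def_SporadicB

/-!
# The non-split double cover of `Sp₆(2)`: relations, order, uniqueness

`Rels C z a`: the elements `a 0, …, a 6` generate `C`, `z` is a central involution, `(a i)² = z`, `a i` and `a j`
anticommute (commutator `z`) for non-adjacent nodes of the `E₇` diagram and satisfy the braid relation for adjacent
nodes, `(a 0 ⋯ a 6)⁹ = 1`. Every non-split double cover of `Sp₆(2)` has such generators, with `a i` over the
transvection `tr (v i)`; a group with `Rels` has order at most `2903040`, and two such groups of order `2903040` are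
isomorphic by an isomorphism matching the generators.
-/

set_option autoImplicit false

namespace Cfsg.Agent.SporRec.TwoSp6.Lift

open Cfsg.Agent.SporRec.TwoSp6.Cox Cfsg.Agent.SporRec.TwoSp6.Sp

/-- Central extension of `Sp₆(2)` by `{1, z}`. -/
structure Ext {C : Type*} [Group C] (z : C) (π : C →* S) : Prop where
  surj : Function.Surjective π
  z_ne : z ≠ 1
  z_sq : z * z = 1
  z_comm : ∀ g, z * g = g * z
  ker : ∀ g, π g = 1 → g = 1 ∨ g = z
  map_z : π z = 1

/-- The relations. -/
structure Rels {C : Type*} [Group C] (z : C) (a : Fin 7 → C) : Prop where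
  z_ne : z ≠ 1
  z_sq : z * z = 1
  z_comm : ∀ g, z * g = g * z
  sq : ∀ i, a i * a i = z
  comm : ∀ i j, m7 i j = 2 → a i * a j = z * (a j * a i)
  braid : ∀ i j, m7 i j = 3 → a i * a j * a i = a j * a i * a j
  cox : prod7 a ^ 9 = 1
  gen : Subgroup.closure (Set.range a) = ⊤

section Card

variable {C : Type*} [Group C] {z : C} {a : Fin 7 → C}

theorem zpowers_normal (hz : ∀ g, z * g = g * z) : (Subgroup.zpowers z).Normal := by
  refine ⟨fun n hn g => ?_⟩
  obtain ⟨k, rfl⟩ := Subgroup.mem_zpowers_iff.1 hn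
  have : Commute z g := hz g
  have h2 : g * z ^ k * g⁻¹ = z ^ k := by
    rw [(this.zpow_left k).symm.eq, mul_inv_cancel_right]
  rw [h2]; exact hn

theorem mem_zpowers {x : C} (z_sq : z * z = 1) : x ∈ Subgroup.zpowers z ↔ x = 1 ∨ x = z := by
  constructor
  · intro h
    obtain ⟨k, rfl⟩ := Subgroup.mem_zpowers_iff.1 h
    rcases Int.even_or_odd k with ⟨m, hm⟩ | ⟨m, hm⟩
    · left
      rw [hm, zpow_add, ← (Commute.refl z).mul_zpow, z_sq, one_zpow]
    · right
      rw [hm, zpow_add, two_mul, zpow_add, zpow_one]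
      have : z ^ m * z ^ m = 1 := by
        rw [← (Commute.refl z).mul_zpow, z_sq, one_zpow]
      rw [this, one_mul]
  · rintro (rfl | rfl)
    · exact one_mem _
    · exact Subgroup.mem_zpowers _

theorem card_zpowers (z_ne : z ≠ 1) (z_sq : z * z = 1) : Nat.card (Subgroup.zpowers z) = 2 := by
  rw [Nat.card_zpowers]
  exact orderOf_eq_prime (by rw [pow_two, z_sq]) z_ne

/-- A group with the relations has order at most `2903040`. -/
theorem Rels.card_le (R : Rels z a) : Finite C ∧ Nat.card C ≤ 2903040 := by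
  have : (Subgroup.zpowers z).Normal := zpowers_normal R.z_comm
  have hz : (QuotientGroup.mk' (Subgroup.zpowers z)) z = 1 := by
    rw [← MonoidHom.mem_ker, QuotientGroup.ker_mk']; exact Subgroup.mem_zpowers z
  set q := QuotientGroup.mk' (Subgroup.zpowers z) with hq
  have h := Cox.card_le (fun i => q (a i)) (liftable_of _ ?_ ?_ ?_) ?_ ?_
  · obtain ⟨h1, h2⟩ := h
    have hc : Nat.card C = Nat.card (C ⧸ Subgroup.zpowers z) * Nat.card (Subgroup.zpowers z) :=
      Subgroup.card_eq_card_quotient_mul_card_subgroup _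
    rw [card_zpowers R.z_ne R.z_sq] at hc
    have h3 : 0 < Nat.card (C ⧸ Subgroup.zpowers z) := Nat.card_pos
    refine ⟨Nat.finite_of_card_ne_zero (by omega), by omega⟩
  · intro i
    rw [← map_mul, R.sq, hz]
  · intro i j hij
    rw [← map_mul, ← map_mul, R.comm i j hij, map_mul, hz, one_mul]
  · intro i j hij
    rw [← map_mul, ← map_mul, ← map_mul, ← map_mul, R.braid i j hij]
  · rw [← map_prod7, ← map_pow, R.cox, map_one]
  · have h1 : Set.range (fun i => q (a i)) = q '' Set.range a := by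
      rw [← Set.range_comp]; rfl
    rw [h1, ← MonoidHom.map_closure, R.gen, Subgroup.map_top_of_surjective _ (QuotientGroup.mk'_surjective _)]

/-- **Uniqueness.** -/
theorem Rels.unique (R : Rels z a) (hC : Nat.card C = 2903040) {D : Type*} [Group D] {z' : D} {a' : Fin 7 → D}
    (R' : Rels z' a') (hD : Nat.card D = 2903040) : ∃ e : C ≃* D, (∀ i, e (a i) = a' i) ∧ e z = z' := by
  have fC : Finite C := Nat.finite_of_card_ne_zero (by rw [hC]; norm_num)
  have fD : Finite D := Nat.finite_of_card_ne_zero (by rw [hD]; norm_num)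
  set F : Subgroup (C × D) := Subgroup.closure (Set.range fun i => (a i, a' i)) with hF
  have hmem : ∀ i, (a i, a' i) ∈ F := fun i => Subgroup.subset_closure ⟨i, rfl⟩
  set b : Fin 7 → F := fun i => ⟨(a i, a' i), hmem i⟩ with hb
  have hzz : ∀ i, (b i * b i : F) = b 0 * b 0 := by
    intro i
    apply Subtype.ext
    apply Prod.ext
    · show a i * a i = a 0 * a 0
      rw [R.sq, R.sq]
    · show a' i * a' i = a' 0 * a' 0
      rw [R'.sq, R'.sq]
  have hzv : ((b 0 * b 0 : F) : C × D) = (z, z') := by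
    apply Prod.ext
    · exact R.sq 0
    · exact R'.sq 0
  have RF : Rels (b 0 * b 0) b := by
    refine ⟨?_, ?_, ?_, ?_, ?_, ?_, ?_, ?_⟩
    · intro h
      have h1 := congrArg Subtype.val h
      rw [hzv] at h1
      exact R.z_ne (congrArg Prod.fst h1)
    · apply Subtype.ext
      rw [Subgroup.coe_mul, hzv]
      exact Prod.ext R.z_sq R'.z_sq
    · intro g
      apply Subtype.ext
      rw [Subgroup.coe_mul F (b 0 * b 0), Subgroup.coe_mul F g, hzv]
      exact Prod.ext (R.z_comm _) (R'.z_comm _)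
    · exact hzz
    · intro i j hij
      apply Subtype.ext
      rw [Subgroup.coe_mul F (b 0 * b 0), hzv]
      exact Prod.ext (R.comm i j hij) (R'.comm i j hij)
    · intro i j hij
      apply Subtype.ext
      exact Prod.ext (R.braid i j hij) (R'.braid i j hij)
    · apply Subtype.ext
      have e : ((prod7 b ^ 9 : F) : C × D) = (prod7 a ^ 9, prod7 a' ^ 9) := rfl
      rw [e, R.cox, R'.cox]; rfl
    · rw [eq_top_iff]
      rintro ⟨x, hx⟩ -
      rw [hF] at hx
      have key : ∀ y (hy : y ∈ Subgroup.closure (Set.range fun i => (a i, a' i))),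
          (⟨y, hF ▸ hy⟩ : F) ∈ Subgroup.closure (Set.range b) := by
        intro y hy
        induction hy using Subgroup.closure_induction with
        | one => exact one_mem _
        | mem y hy =>
          obtain ⟨i, rfl⟩ := hy
          exact Subgroup.subset_closure ⟨i, rfl⟩
        | mul x y hx hy ihx ihy => exact mul_mem ihx ihy
        | inv x hx ihx => exact inv_mem ihx
      exact key x hx
  obtain ⟨fF, cF⟩ := RF.card_le
  -- the projections are bijective
  set p1 : F →* C := (MonoidHom.fst C D).comp F.subtype with hp1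
  set p2 : F →* D := (MonoidHom.snd C D).comp F.subtype with hp2
  have s1 : Function.Surjective p1 := by
    rw [← MonoidHom.range_eq_top, eq_top_iff, ← R.gen, Subgroup.closure_le]
    rintro _ ⟨i, rfl⟩
    exact ⟨b i, rfl⟩
  have s2 : Function.Surjective p2 := by
    rw [← MonoidHom.range_eq_top, eq_top_iff, ← R'.gen, Subgroup.closure_le]
    rintro _ ⟨i, rfl⟩
    exact ⟨b i, rfl⟩
  have c1 : Nat.card F = Nat.card C :=
    le_antisymm (by rw [hC]; exact cF) (Nat.card_le_card_of_surjective p1 s1)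
  have c2 : Nat.card F = Nat.card D :=
    le_antisymm (by rw [hD]; exact cF) (Nat.card_le_card_of_surjective p2 s2)
  have b1 : Function.Bijective p1 := (Nat.bijective_iff_surjective_and_card p1).2 ⟨s1, c1⟩
  have b2 : Function.Bijective p2 := (Nat.bijective_iff_surjective_and_card p2).2 ⟨s2, c2⟩
  let e1 : F ≃* C := MulEquiv.ofBijective p1 b1
  let e2 : F ≃* D := MulEquiv.ofBijective p2 b2
  have ha : ∀ i, e1.symm (a i) = b i := by
    intro i
    rw [MulEquiv.symm_apply_eq]; rfl
  refine ⟨e1.symm.trans e2, fun i => ?_, ?_⟩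
  · rw [MulEquiv.trans_apply, ha]; rfl
  · have hzb : e1.symm z = b 0 * b 0 := by
      rw [MulEquiv.symm_apply_eq]
      exact (R.sq 0).symm
    rw [MulEquiv.trans_apply, hzb]
    exact R'.sq 0

end Card

/-! ### lifts in a central extension -/

section Lifts

variable {C : Type*} [Group C] {z : C} {π : C →* S} (E : Ext z π)

include E

theorem Ext.eq_or {x y : C} (h : π x = π y) : y = x ∨ y = z * x := by
  have h1 : π (y * x⁻¹) = 1 := by rw [map_mul, map_inv, h, mul_inv_cancel]
  rcases E.ker _ h1 with h2 | h2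
  · left; exact mul_inv_eq_one.1 h2
  · right; rw [← h2, inv_mul_cancel_right]

theorem Ext.z_mul_sq (x : C) : (z * x) * (z * x) = x * x := by
  calc (z * x) * (z * x) = z * (x * z) * x := by group
    _ = z * (z * x) * x := by rw [← E.z_comm x]
    _ = (z * z) * (x * x) := by group
    _ = x * x := by rw [E.z_sq, one_mul]

theorem Ext.conj_z (g : C) : g * z * g⁻¹ = z := by rw [← E.z_comm, mul_inv_cancel_right]

theorem Ext.cases_conj {ε : C} (h : ε = 1 ∨ ε = z) (g : C) : g * ε * g⁻¹ = ε := by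
  rcases h with rfl | rfl
  · rw [mul_one, mul_inv_cancel]
  · exact E.conj_z g

theorem Ext.cases_comm {ε : C} (h : ε = 1 ∨ ε = z) (g : C) : ε * g = g * ε := by
  rcases h with rfl | rfl
  · rw [mul_one, one_mul]
  · exact E.z_comm g

theorem Ext.cases_sq {ε : C} (h : ε = 1 ∨ ε = z) : ε * ε = 1 := by
  rcases h with rfl | rfl
  · rw [mul_one]
  · exact E.z_sq

/-- The squares of the lifts of transvections are all equal. -/
theorem Ext.exists_eps : ∃ ε : C, (ε = 1 ∨ ε = z) ∧ ∀ u : V, u ≠ 0 → ∀ x : C, π x = tr u → x * x = ε := by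
  obtain ⟨x0, hx0⟩ := E.surj (tr (v 0))
  have hε : x0 * x0 = 1 ∨ x0 * x0 = z := E.ker _ (by rw [map_mul, hx0, tr_sq])
  refine ⟨x0 * x0, hε, ?_⟩
  intro u hu x hx
  obtain ⟨g, hg⟩ := exists_act (v_ne 0) hu
  obtain ⟨γ, hγ⟩ := E.surj g
  have h1 : π (γ * x0 * γ⁻¹) = π x := by
    rw [map_mul, map_mul, map_inv, hγ, hx0, conj_tr, hg, hx]
  have h2 : (γ * x0 * γ⁻¹) * (γ * x0 * γ⁻¹) = x0 * x0 := by
    have : (γ * x0 * γ⁻¹) * (γ * x0 * γ⁻¹) = γ * (x0 * x0) * γ⁻¹ := by group
    rw [this, E.cases_conj hε]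
  rcases E.eq_or h1 with h | h
  · rw [h, h2]
  · rw [h, E.z_mul_sq, h2]

/-- The commutators of the lifts of commuting distinct transvections are all equal. -/
theorem Ext.exists_del : ∃ δ : C, (δ = 1 ∨ δ = z) ∧ ∀ u w : V, u ≠ 0 → w ≠ 0 → w ≠ u → om u w = 0 →
    ∀ x y : C, π x = tr u → π y = tr w → x * y = δ * (y * x) := by
  have v04 : v 4 ≠ v 0 := by decide +kernel
  have o04 : om (v 0) (v 4) = 0 := by rw [om_v']; decide
  obtain ⟨x0, hx0⟩ := E.surj (tr (v 0))
  obtain ⟨y0, hy0⟩ := E.surj (tr (v 4))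
  have h0 : π (x0 * y0 * (y0 * x0)⁻¹) = 1 := by
    rw [map_mul, map_inv, map_mul, map_mul, hx0, hy0, tr_comm o04, mul_inv_cancel]
  have hδ := E.ker _ h0
  refine ⟨x0 * y0 * (y0 * x0)⁻¹, hδ, ?_⟩
  intro u w hu hw hwu huw x y hx hy
  obtain ⟨g, hg1, hg2⟩ := exists_pair (v_ne 0) (v_ne 4) v04 o04 hu hw hwu huw
  obtain ⟨γ, hγ⟩ := E.surj g
  have h1 : π (γ * x0 * γ⁻¹) = π x := by
    rw [map_mul, map_mul, map_inv, hγ, hx0, conj_tr, hg1, hx]
  have h2 : π (γ * y0 * γ⁻¹) = π y := by
    rw [map_mul, map_mul, map_inv, hγ, hy0, conj_tr, hg2, hy]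
  have h3 : (γ * x0 * γ⁻¹) * (γ * y0 * γ⁻¹) =
      (x0 * y0 * (y0 * x0)⁻¹) * ((γ * y0 * γ⁻¹) * (γ * x0 * γ⁻¹)) := by
    have e : (γ * x0 * γ⁻¹) * (γ * y0 * γ⁻¹) =
        (γ * (x0 * y0 * (y0 * x0)⁻¹) * γ⁻¹) * ((γ * y0 * γ⁻¹) * (γ * x0 * γ⁻¹)) := by group
    rw [E.cases_conj hδ] at e
    exact e
  set δ := x0 * y0 * (y0 * x0)⁻¹ with hδd
  set x' := γ * x0 * γ⁻¹ with hx'
  set y' := γ * y0 * γ⁻¹ with hy'
  have zl : ∀ p q : C, (z * p) * q = z * (p * q) := fun p q => mul_assoc _ _ _
  have zr : ∀ p q : C, p * (z * q) = z * (p * q) := fun p q => by rw [← mul_assoc, ← E.z_comm, mul_assoc]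
  rcases E.eq_or h1 with ex | ex <;> rcases E.eq_or h2 with ey | ey <;> rw [ex, ey]
  · exact h3
  · rw [zr, h3, zl, zr δ]
  · rw [zl, h3, zr y', zr δ]
  · rw [zl, zr x', h3, zl, zr y', zr δ, zr δ]

theorem Ext.sq_prod {ε δ : C} (hε : ε = 1 ∨ ε = z) (hδ : δ = 1 ∨ δ = z) :
    ∀ L : List C, L.Pairwise (fun x y => x * y = δ * (y * x)) → (∀ x ∈ L, x * x = ε) →
      L.prod * L.prod = δ ^ (L.length * (L.length - 1) / 2) * ε ^ L.length := by
  have dc := E.cases_comm hδ
  have move : ∀ (x : C) (L : List C), (∀ y ∈ L, x * y = δ * (y * x)) → x * L.prod = δ ^ L.length * (L.prod * x) := by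
    intro x L
    induction L with
    | nil => intro _; simp
    | cons y L ih =>
      intro h
      rw [List.prod_cons, List.length_cons, ← mul_assoc, h y List.mem_cons_self, pow_succ']
      have h2 := ih fun w hw => h w (List.mem_cons_of_mem _ hw)
      have dp : ∀ g, δ ^ L.length * g = g * δ ^ L.length := fun g =>
        ((show Commute δ g from dc g).pow_left _).eq
      calc δ * (y * x) * L.prod = δ * (y * (x * L.prod)) := by group
        _ = δ * (y * (δ ^ L.length * (L.prod * x))) := by rw [h2]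
        _ = δ * ((y * δ ^ L.length) * (L.prod * x)) := by group
        _ = δ * ((δ ^ L.length * y) * (L.prod * x)) := by rw [dp]
        _ = δ * δ ^ L.length * (y * L.prod * x) := by group
  intro L
  induction L with
  | nil => intro _ _; simp
  | cons x L ih =>
    intro hp hs
    rw [List.pairwise_cons] at hp
    have h1 := move x L hp.1
    have h2 := ih hp.2 fun y hy => hs y (List.mem_cons_of_mem _ hy)
    have hxx := hs x List.mem_cons_self
    have dinv : ∀ n : ℕ, δ ^ n * δ ^ n = 1 := by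
      intro n
      rw [← (Commute.refl δ).mul_pow, E.cases_sq hδ, one_pow]
    have h3 : L.prod * x = δ ^ L.length * (x * L.prod) := by
      rw [h1, ← mul_assoc, dinv, one_mul]
    have dp : ∀ (n : ℕ) g, δ ^ n * g = g * δ ^ n := fun n g =>
      ((show Commute δ g from dc g).pow_left _).eq
    have ec : ∀ g, ε * g = g * ε := E.cases_comm hε
    rw [List.prod_cons, List.length_cons]
    have harith : (L.length + 1) * (L.length + 1 - 1) / 2 = L.length + L.length * (L.length - 1) / 2 := by
      rcases Nat.eq_zero_or_pos L.length with h0 | h0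
      · rw [h0]
      · obtain ⟨k, hk⟩ : ∃ k, L.length = k + 1 := ⟨L.length - 1, by omega⟩
        rw [hk]
        have e1 : (k + 1 + 1) * (k + 1 + 1 - 1) = (k + 1) * (k + 1 - 1) + 2 * (k + 1) := by
          simp only [Nat.add_sub_cancel]; ring
        rw [e1, Nat.add_mul_div_left _ _ (by norm_num)]
        omega
    rw [harith]
    calc x * L.prod * (x * L.prod) = x * (L.prod * x) * L.prod := by group
      _ = x * (δ ^ L.length * (x * L.prod)) * L.prod := by rw [h3]
      _ = (x * δ ^ L.length) * (x * (L.prod * L.prod)) := by group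
      _ = (δ ^ L.length * x) * (x * (L.prod * L.prod)) := by rw [dp]
      _ = δ ^ L.length * ((x * x) * (L.prod * L.prod)) := by group
      _ = δ ^ L.length * (ε * (δ ^ (L.length * (L.length - 1) / 2) * ε ^ L.length)) := by rw [hxx, h2]
      _ = δ ^ L.length * (δ ^ (L.length * (L.length - 1) / 2) * (ε * ε ^ L.length)) := by
          rw [← mul_assoc ε, ec, mul_assoc]
      _ = δ ^ (L.length + L.length * (L.length - 1) / 2) * ε ^ (L.length + 1) := by
          rw [← pow_succ', ← mul_assoc, ← pow_add]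

/-- The two constants agree. -/
theorem Ext.eps_eq_del {ε δ : C} (hε : ε = 1 ∨ ε = z) (hδ : δ = 1 ∨ δ = z)
    (h1 : ∀ u : V, u ≠ 0 → ∀ x : C, π x = tr u → x * x = ε)
    (h2 : ∀ u w : V, u ≠ 0 → w ≠ 0 → w ≠ u → om u w = 0 →
      ∀ x y : C, π x = tr u → π y = tr w → x * y = δ * (y * x)) : ε = δ := by
  choose l hl using fun c : ℕ => E.surj (tr (enc c))
  have hne : ∀ c ∈ fano, enc c ≠ 0 := by
    have : ∀ c ∈ fano, enc c ≠ 0 := by decide +kernel
    exact this
  have hpw : (fano.map l).Pairwise (fun x y => x * y = δ * (y * x)) := by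
    rw [List.pairwise_map]
    have hp : fano.Pairwise (fun c d => enc d ≠ enc c) := by decide +kernel
    have hp2 : fano.Pairwise (fun c d => c ∈ fano ∧ d ∈ fano ∧ enc d ≠ enc c) := by
      rw [List.pairwise_iff_forall_sublist] at hp ⊢
      intro c d hcd
      exact ⟨hcd.subset List.mem_cons_self, hcd.subset (by simp), hp hcd⟩
    refine hp2.imp ?_
    rintro c d ⟨hc, hd, hcd⟩
    exact h2 _ _ (hne c hc) (hne d hd) hcd (fano_orth c hc d hd) _ _ (hl c) (hl d)
  have hsq : ∀ x ∈ fano.map l, x * x = ε := by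
    intro x hx
    obtain ⟨c, hc, rfl⟩ := List.mem_map.1 hx
    exact h1 _ (hne c hc) _ (hl c)
  have key := E.sq_prod hε hδ _ hpw hsq
  have hπ : π (fano.map l).prod = 1 := by
    rw [map_list_prod, List.map_map, ← fano_prod]
    congr 1
    exact List.map_congr_left fun c _ => hl c
  have hP := E.cases_sq (E.ker _ hπ)
  rw [hP] at key
  have hlen : (fano.map l).length = 7 := by rw [List.length_map]; rfl
  rw [hlen] at key
  have e1 : δ ^ (7 * (7 - 1) / 2) = δ := by
    show δ ^ 21 = δ
    rw [show (21 : ℕ) = 2 * 10 + 1 from rfl, pow_succ, pow_mul, pow_two, E.cases_sq hδ, one_pow, one_mul]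
  have e2 : ε ^ 7 = ε := by
    rw [show (7 : ℕ) = 2 * 3 + 1 from rfl, pow_succ, pow_mul, pow_two, E.cases_sq hε, one_pow, one_mul]
  rw [e1, e2] at key
  have h3 : δ * (δ * ε) = δ * 1 := by rw [← key]
  rw [← mul_assoc, E.cases_sq hδ, one_mul, mul_one] at h3
  exact h3

/-- Correcting the sign of a lift to get the braid relation. -/
theorem Ext.exists_braid {u w : V} (h : om u w = 1) {x : C} (hx : π x = tr u) :
    ∃ y : C, π y = tr w ∧ x * y * x = y * x * y := by
  obtain ⟨y, hy⟩ := E.surj (tr w)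
  have h1 : π (x * y * x) = π (y * x * y) := by
    simp only [map_mul, hx, hy]
    exact tr_braid h
  rcases E.eq_or h1 with h2 | h2
  · exact ⟨y, hy, h2.symm⟩
  · refine ⟨z * y, by rw [map_mul, E.map_z, one_mul, hy], ?_⟩
    calc x * (z * y) * x = (x * z) * y * x := by group
      _ = (z * x) * y * x := by rw [E.z_comm]
      _ = z * (x * y * x) := by group
      _ = y * x * y := h2.symm
      _ = z * z * (y * x * y) := by rw [E.z_sq, one_mul]
      _ = z * (z * (y * x)) * y := by group
      _ = z * (y * x * z) * y := by rw [E.z_comm (y * x)]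
      _ = z * y * x * (z * y) := by group

end Lifts

end Cfsg.Agent.SporRec.TwoSp6.Lift
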