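import Cfsg.Agent.SporRec.TwoSp6.Mat
import Cfsg.Agent.SporRec.TwoSp6.Lift

/-!
The concrete model `M` of the double cover `2·Sp₆(2)`: matrices of the spin representation of degree 8 over `ZMod 3`.
`code g : ℕ` is the packed matrix of `g`, `code (g * h) = mulN (code g) (code h)`, `code` is injective.
Words: lists of natural numbers, letters `0 … 6` are the generators, the letter `7` (and any other) is the central
involution `z`; `wN w` is the code of the word `w`.
-/

set_option autoImplicit false

namespace Cfsg.Agent.SporRec.TwoSp6.Model

open Cfsg.Agent.SporRec.TwoSp6.Mat Cfsg.Agent.Lib.PackMat Cfsg.Agent.SporRec.TwoSp6.Lift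
  Cfsg.Agent.SporRec.TwoSp6.Cox

abbrev Mx := Matrix (Fin 8) (Fin 8) (ZMod 3)

def g0 : ℕ := 0x2000000001001001000001000001002000000000002000002000000002001002000000001000000002001001000002000001001000000000002002000002002000000000002002000001002000000000001000001000000001001002000
def g1 : ℕ := 0x1000000000000000000000000000000001000000000000000000000000002002000000000000000000000000000000000000002000000000000000000001000000000000002000000000000000000000000001000000000000000
def g2 : ℕ := 0x1000000000000000000000000000002000000000000000000002000000000000000002000000000000000000001000000000000002000000000000000000000000000001000000000000000000001000000000000000000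
def g3 : ℕ := 0x1000001002002000000000001000002001002000000000002000002002002002002001000002000000000000000000001000002002001002001001000001000000000001002001000001000000000001001001000002000000000
def g4 : ℕ := 0x2000000000000000002000000000000000002000000000000000000001000000000000000000000000000000000002000000001000000000000000000000000000000001000000000001000000000000000000000
def g5 : ℕ := 0x1002000000000001002002000000002001002000000001000000002001001000000000001001000000000002002000002002000000000002002000001002000000000002001002000000001001001000000001000000001001002000000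
def g6 : ℕ := 0x2000000000000000000000000000001000000000001000000000000000000000000000000000000000000002000002000000000000000000000000000000000000002000000000000000000001000000000000000001000000000000
/-- code of the central involution -/
def zN : ℕ := 0x2000000000000000000000000002000000000000000000000000002000000000000000000000000002000000000000000000000000002000000000000000000000000002000000000000000000000000002000000000000000000000000002

/-- code of a letter -/
noncomputable def ltN (k : ℕ) : ℕ :=
  bif Nat.beq k 0 then g0 else bif Nat.beq k 1 then g1 else bif Nat.beq k 2 then g2 else bif Nat.beq k 3 then g3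
  else bif Nat.beq k 4 then g4 else bif Nat.beq k 5 then g5 else bif Nat.beq k 6 then g6 else zN

/-- code of a word, starting from `acc` -/
noncomputable def wNA : List ℕ → ℕ → ℕ
  | [], acc => acc
  | k :: w, acc => force (mulN acc (ltN k)) fun acc => wNA w acc

/-- code of a word -/
noncomputable def wN (w : List ℕ) : ℕ := wNA w oneN

/-! ### Units -/

noncomputable def code (g : Mxˣ) : ℕ := encM (g : Mx)

theorem code_mul (g h : Mxˣ) : code (g * h) = mulN (code g) (code h) := by
  unfold code; rw [Units.val_mul, encM_mul]

theorem code_one : code 1 = oneN := by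
  unfold code; rw [Units.val_one, encM_one]

theorem code_injective : Function.Injective code := fun _ _ h => Units.ext (encM_injective h)

theorem code_inj {g h : Mxˣ} : code g = code h ↔ g = h := code_injective.eq_iff

theorem ok_gen : ∀ i : Fin 7, okN (ltN i) = true := by decide +kernel

theorem ok_inv : ∀ i : Fin 7, okN (mulN zN (ltN i)) = true := by decide +kernel

theorem gen_inv : ∀ i : Fin 7, mulN (ltN i) (mulN zN (ltN i)) = oneN := by decide +kernel

theorem inv_gen : ∀ i : Fin 7, mulN (mulN zN (ltN i)) (ltN i) = oneN := by decide +kernel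

/-- the generators as invertible matrices -/
noncomputable def gu (i : Fin 7) : Mxˣ :=
  ⟨decM (ltN i), decM (mulN zN (ltN i)),
    encM_injective (by rw [encM_mul, encM_decM (ok_gen i), encM_decM (ok_inv i), gen_inv, encM_one]),
    encM_injective (by rw [encM_mul, encM_decM (ok_gen i), encM_decM (ok_inv i), inv_gen, encM_one])⟩

theorem code_gu (i : Fin 7) : code (gu i) = ltN i := encM_decM (ok_gen i)

/-- The group `2·Sp₆(2)`. -/
noncomputable def M : Subgroup Mxˣ := Subgroup.closure (Set.range gu)

/-- generators of `M` -/
noncomputable def gen (i : Fin 7) : M := ⟨gu i, Subgroup.subset_closure ⟨i, rfl⟩⟩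

/-- central involution of `M` -/
noncomputable def z : M := gen 0 * gen 0

/-- the code of an element of `M` -/
noncomputable def cd (g : M) : ℕ := code (g : Mxˣ)

theorem cd_mul (g h : M) : cd (g * h) = mulN (cd g) (cd h) := code_mul _ _

theorem cd_one : cd 1 = oneN := code_one

theorem cd_injective : Function.Injective cd := fun _ _ h => Subtype.ext (code_injective h)

theorem cd_inj {g h : M} : cd g = cd h ↔ g = h := cd_injective.eq_iff

theorem cd_gen (i : Fin 7) : cd (gen i) = ltN i := code_gu i

theorem cd_z : cd z = zN := by
  unfold z; rw [cd_mul, cd_gen]; decide +kernel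

/-- letters in a group with chosen elements -/
def lt {C : Type*} (a : Fin 7 → C) (z : C) (k : ℕ) : C :=
  if k = 0 then a 0 else if k = 1 then a 1 else if k = 2 then a 2 else if k = 3 then a 3 else
  if k = 4 then a 4 else if k = 5 then a 5 else if k = 6 then a 6 else z

/-- value of a word -/
def wv {C : Type*} [Group C] (a : Fin 7 → C) (z : C) (w : List ℕ) : C := (w.map (lt a z)).prod

theorem wv_nil {C : Type*} [Group C] (a : Fin 7 → C) (z : C) : wv a z [] = 1 := rfl

theorem wv_cons {C : Type*} [Group C] (a : Fin 7 → C) (z : C) (k : ℕ) (w : List ℕ) :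
    wv a z (k :: w) = lt a z k * wv a z w := by
  unfold wv; rw [List.map_cons, List.prod_cons]

theorem wv_append {C : Type*} [Group C] (a : Fin 7 → C) (z : C) (u v : List ℕ) :
    wv a z (u ++ v) = wv a z u * wv a z v := by
  unfold wv; rw [List.map_append, List.prod_append]

theorem cd_lt (k : ℕ) : cd (lt gen z k) = ltN k := by
  unfold lt
  split_ifs with h0 h1 h2 h3 h4 h5 h6
  · subst h0; exact cd_gen 0
  · subst h1; exact cd_gen 1
  · subst h2; exact cd_gen 2
  · subst h3; exact cd_gen 3
  · subst h4; exact cd_gen 4
  · subst h5; exact cd_gen 5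
  · subst h6; exact cd_gen 6
  · rw [cd_z]
    unfold ltN
    have e : ∀ m, k ≠ m → Nat.beq k m = false := fun m h => by
      rw [← Bool.not_eq_true]; intro h2; exact h (Nat.eq_of_beq_eq_true h2)
    rw [e 0 h0, e 1 h1, e 2 h2, e 3 h3, e 4 h4, e 5 h5, e 6 h6]; rfl

theorem wNA_nil (acc : ℕ) : wNA [] acc = acc := rfl

theorem wNA_cons (k : ℕ) (w : List ℕ) (acc : ℕ) : wNA (k :: w) acc = wNA w (mulN acc (ltN k)) :=
  force_eq (mulN acc (ltN k)) fun acc => wNA w acc

theorem wNA_eq (w : List ℕ) (g : M) : wNA w (cd g) = cd (g * wv gen z w) := by
  induction w generalizing g with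
  | nil => rw [wv_nil, mul_one, wNA_nil]
  | cons k w ih => rw [wv_cons, ← mul_assoc, ← ih, cd_mul, cd_lt, wNA_cons]

theorem cd_wv (w : List ℕ) : cd (wv gen z w) = wN w := by
  unfold wN; rw [← cd_one, wNA_eq, one_mul]

/-! ### The relations -/

theorem rel_sq : ∀ i : Fin 7, mulN (ltN i) (ltN i) = zN := by decide +kernel

theorem rel_comm : ∀ i j : Fin 7, m7 i j = 2 → mulN (ltN i) (ltN j) = mulN zN (mulN (ltN j) (ltN i)) := by
  decide +kernel

theorem rel_braid : ∀ i j : Fin 7, m7 i j = 3 →
    mulN (mulN (ltN i) (ltN j)) (ltN i) = mulN (mulN (ltN j) (ltN i)) (ltN j) := by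
  decide +kernel

theorem rel_z : ∀ i : Fin 7, mulN zN (ltN i) = mulN (ltN i) zN := by decide +kernel

theorem closure_gen : Subgroup.closure (Set.range gen) = ⊤ := by
  rw [eq_top_iff]
  rintro ⟨x, hx⟩ -
  have key : ∀ y (hy : y ∈ Subgroup.closure (Set.range gu)),
      (⟨y, hy⟩ : M) ∈ Subgroup.closure (Set.range gen) := by
    intro y hy
    induction hy using Subgroup.closure_induction with
    | one => exact one_mem _
    | mem y hy =>
      obtain ⟨i, rfl⟩ := hy
      exact Subgroup.subset_closure ⟨i, rfl⟩
    | mul y y' hy hy' ih ih' => exact mul_mem ih ih'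
    | inv y hy ih => exact inv_mem ih
  exact key x hx

theorem z_ne : z ≠ 1 := by
  intro h
  have := congrArg cd h
  rw [cd_z, cd_one] at this
  revert this; decide +kernel

theorem z_sq : z * z = 1 := by
  rw [← cd_inj, cd_mul, cd_z, cd_one]; decide +kernel

theorem z_comm (g : M) : z * g = g * z := by
  have h : (⊤ : Subgroup M) ≤ Subgroup.centralizer {z} := by
    rw [← closure_gen, Subgroup.closure_le]
    rintro _ ⟨i, rfl⟩
    rw [SetLike.mem_coe, Subgroup.mem_centralizer_singleton_iff]
    rw [← cd_inj, cd_mul, cd_mul, cd_z, cd_gen, rel_z]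
  exact (Subgroup.mem_centralizer_singleton_iff.1 (h (Subgroup.mem_top g))).symm

/-- **The model satisfies the relations.** -/
theorem rels : Rels z gen where
  z_ne := z_ne
  z_sq := z_sq
  z_comm := z_comm
  sq i := by rw [← cd_inj, cd_mul, cd_gen, cd_z, rel_sq]
  comm i j h := by rw [← cd_inj, cd_mul, cd_mul, cd_mul, cd_gen, cd_gen, cd_z, rel_comm i j h]
  braid i j h := by
    rw [← cd_inj, cd_mul, cd_mul, cd_mul, cd_mul, cd_gen, cd_gen, rel_braid i j h]
  cox := by
    have e : prod7 gen = wv gen z [0, 1, 2, 3, 4, 5, 6] := by
      unfold prod7 wv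
      simp [lt, mul_assoc]
    have e9 : ∀ x : M, x ^ 9 = x * x * x * x * x * x * x * x * x := fun x => by
      simp only [pow_succ, pow_zero, one_mul]
    rw [← cd_inj, e, e9]
    simp only [cd_mul, cd_wv, cd_one]
    decide +kernel
  gen := closure_gen

end Cfsg.Agent.SporRec.TwoSp6.Model
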